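import Cfsg.Agent.Lib.Helper4.McL.Word

set_option autoImplicit false

/-!
# The McLaughlin group of the definitions is the group `P` on 275 points
-/

namespace Cfsg.Agent.Lib.Helper4.McL

open Cfsg
open Cfsg.Agent.Lib.Helper10.SX
open Cfsg.Agent.Lib.Helper14.LeechMono (co0_map_zero)
open MulAction

noncomputable section

theorem map_neg_of_mem {g : Equiv.Perm ↥leechLattice} (hg : g ∈ Co0) (x : ↥leechLattice) :
    g (-x) = -g x := by
  have h0 : g 0 = 0 := co0_map_zero g hg
  have := hg.1 x (-x)
  rw [add_neg_cancel, h0] at this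
  exact (neg_eq_of_add_eq_zero_right this.symm).symm

/-- the group of the definitions as a joint stabiliser inside `Co0` -/
def mclEquivStab : ↥Spor.McL ≃ ↥(stabilizer ↥Co0 (-Spor.leechV) ⊓ stabilizer ↥Co0 Spor.leechU) where
  toFun g := ⟨⟨g.1, ((mem_McL_iff g.1).mp g.2).1⟩, by
    obtain ⟨h0, h1, h2⟩ := (mem_McL_iff g.1).mp g.2
    constructor
    · show g.1 (-Spor.leechV) = -Spor.leechV
      rw [map_neg_of_mem h0, h1]
    · show g.1 Spor.leechU = Spor.leechU
      exact h2⟩
  invFun g := ⟨g.1.1, (mem_McL_iff g.1.1).mpr ⟨g.1.2, by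
    have h : g.1.1 (-Spor.leechV) = -Spor.leechV := g.2.1
    rw [map_neg_of_mem g.1.2, neg_inj] at h
    exact h, g.2.2⟩⟩
  left_inv g := rfl
  right_inv g := rfl

theorem card_McL : Nat.card ↥Spor.McL = NMcL := by
  rw [Nat.card_congr mclEquivStab]
  exact Cfsg.Agent.S0404.card_joint_uv (-Spor.leechV) Spor.leechU normV normU dotVU

instance finite_McL : Finite ↥Spor.McL :=
  Nat.finite_of_card_ne_zero (by rw [card_McL]; norm_num)

theorem P_le_range : P ≤ psi.range := by
  apply grp_le_iff.mpr
  intro c hc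
  simp only [List.mem_cons, List.not_mem_nil, or_false] at hc
  rcases hc with rfl | rfl
  · exact ⟨mA, psi_mA⟩
  · exact ⟨mB, psi_mB⟩

theorem card_range_le : Nat.card ↥psi.range ≤ NMcL := by
  rw [← card_McL]
  exact Nat.le_of_dvd Nat.card_pos (Subgroup.card_range_dvd psi)

theorem chain_le : NMcL * Nat.card ↥Sbase ≤ Nat.card ↥P := by
  have h := chain_card_le Sbase (lvls.map toLvl) (chainB_sound lvls chain_ok) Sbase_fix
  rwa [chain_prod] at h

theorem card_P_le : Nat.card ↥P ≤ NMcL :=
  le_trans (Subgroup.card_le_of_le P_le_range) card_range_le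

theorem card_P : Nat.card ↥P = NMcL := by
  apply le_antisymm card_P_le
  have h := chain_le
  have h1 : 1 ≤ Nat.card ↥Sbase := Nat.card_pos
  calc NMcL = NMcL * 1 := (mul_one _).symm
    _ ≤ NMcL * Nat.card ↥Sbase := Nat.mul_le_mul_left _ h1
    _ ≤ Nat.card ↥P := h

theorem Sbase_eq_bot : Sbase = ⊥ := by
  apply Subgroup.eq_bot_of_card_le
  have h := chain_le
  rw [card_P] at h
  have : NMcL * Nat.card ↥Sbase ≤ NMcL * 1 := by rwa [mul_one]
  exact Nat.le_of_mul_le_mul_left this (by norm_num)

theorem range_eq : psi.range = P := by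
  symm
  apply Subgroup.eq_of_le_of_card_ge P_le_range
  rw [card_P]
  exact card_range_le

theorem psi_injective : Function.Injective psi := by
  rw [← MonoidHom.ker_eq_bot_iff]
  apply Subgroup.eq_bot_of_card_le
  have h1 := Subgroup.card_mul_index psi.ker
  rw [Subgroup.index_ker, range_eq, card_P, card_McL] at h1
  have : Nat.card ↥psi.ker * NMcL = 1 * NMcL := by rw [h1, one_mul]
  exact le_of_eq (Nat.eq_of_mul_eq_mul_right (by norm_num) this)

/-- the McLaughlin group of the definitions is isomorphic to the group `P` on 275 points -/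
def mclIso : ↥Spor.McL ≃* ↥P :=
  (MonoidHom.ofInjective psi_injective).trans (MulEquiv.subgroupCongr range_eq)

theorem mclIso_apply (g : ↥Spor.McL) : ((mclIso g : ↥P) : Equiv.Perm (Fin 275)) = psi g := rfl

instance finite_P : Finite ↥P := Nat.finite_of_card_ne_zero (by rw [card_P]; norm_num)

/-- an element of `P` fixing the five base points is the identity -/
theorem rigid (g : ↥P) (h : ∀ b < 5, g • fpt b = fpt b) : g = 1 := by
  have : g ∈ Sbase := h
  rw [Sbase_eq_bot] at this
  exact Subgroup.mem_bot.mp this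

end

end Cfsg.Agent.Lib.Helper4.McL
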