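import Mathlib

set_option autoImplicit false

/-!
# A lower bound for the order of a group from a chain of partial transversals

Given base points `b₁, …, b_m` of a `G`-set and, for each level `i`, a list `L_i` of elements of `G` fixing
`b₁, …, b_{i-1}` and moving `b_i` to pairwise distinct points, and a subgroup `S` fixing all the base points:
`|L₁| ⋯ |L_m| · |S| ≤ |G|`.
-/

namespace Cfsg.Agent.Lib.Helper4.McL

variable {G α : Type*} [Group G] [MulAction G α]

/-- the chain condition -/
def ChainOK : List (α × List G) → Prop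
  | [] => True
  | p :: rest => (p.2.map (fun g => g • p.1)).Nodup ∧ (∀ q ∈ rest, ∀ g ∈ q.2, g • p.1 = p.1) ∧ ChainOK rest

/-- the products `g₁ g₂ ⋯ g_m s` -/
def chainSet (S : Subgroup G) : List (α × List G) → Set G
  | [] => (S : Set G)
  | p :: rest => {x | ∃ g ∈ p.2, ∃ m ∈ chainSet S rest, x = g * m}

theorem chainSet_fix (S : Subgroup G) (c : α) (hS : ∀ s ∈ S, s • c = c) :
    ∀ lv : List (α × List G), (∀ q ∈ lv, ∀ g ∈ q.2, g • c = c) → ∀ m ∈ chainSet S lv, m • c = c
  | [], _, m, hm => hS m hm
  | p :: rest, h, m, hm => by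
    obtain ⟨g, hg, m', hm', rfl⟩ := hm
    rw [mul_smul, chainSet_fix S c hS rest (fun q hq => h q (List.mem_cons_of_mem _ hq)) m' hm']
    exact h p List.mem_cons_self g hg

theorem chainSet_card [Finite G] (S : Subgroup G) :
    ∀ lv : List (α × List G), ChainOK lv → (∀ q ∈ lv, ∀ s ∈ S, s • q.1 = q.1) →
      (lv.map fun q => q.2.length).prod * Nat.card S ≤ (chainSet S lv).ncard
  | [], _, _ => by
    show 1 * Nat.card S ≤ (S : Set G).ncard
    rw [one_mul, ← Nat.card_coe_set_eq]
    rfl
  | p :: rest, h, hS => by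
    obtain ⟨hnd, hfix, hrest⟩ := h
    have ih := chainSet_card S rest hrest (fun q hq => hS q (List.mem_cons_of_mem _ hq))
    classical
    have hfixM : ∀ m ∈ chainSet S rest, m • p.1 = p.1 :=
      chainSet_fix S p.1 (hS p List.mem_cons_self) rest hfix
    have hLnd : p.2.Nodup := List.Nodup.of_map _ hnd
    have himg : chainSet S (p :: rest) =
        (fun z : G × G => z.1 * z.2) '' ((↑p.2.toFinset : Set G) ×ˢ chainSet S rest) := by
      ext x
      constructor
      · rintro ⟨g, hg, m, hm, rfl⟩
        exact ⟨(g, m), ⟨by simpa using hg, hm⟩, rfl⟩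
      · rintro ⟨⟨g, m⟩, ⟨hg, hm⟩, rfl⟩
        exact ⟨g, by simpa using hg, m, hm, rfl⟩
    have hinj : Set.InjOn (fun z : G × G => z.1 * z.2)
        ((↑p.2.toFinset : Set G) ×ˢ chainSet S rest) := by
      rintro ⟨g, m⟩ ⟨hg, hm⟩ ⟨g', m'⟩ ⟨hg', hm'⟩ he
      have he' : g * m = g' * m' := he
      have h1 : g • p.1 = g' • p.1 := by
        have := congrArg (fun x : G => x • p.1) he'
        simpa only [mul_smul, hfixM m hm, hfixM m' hm'] using this
      have hgg : g = g' := by
        have hg1 : g ∈ p.2 := by simpa using hg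
        have hg2 : g' ∈ p.2 := by simpa using hg'
        exact List.inj_on_of_nodup_map hnd hg1 hg2 h1
      subst hgg
      have : m = m' := mul_left_cancel he'
      rw [this]
    rw [himg, Set.InjOn.ncard_image hinj, Set.ncard_prod, Set.ncard_coe_finset,
      List.toFinset_card_of_nodup hLnd]
    show (p.2.length * (rest.map fun q => q.2.length).prod) * Nat.card S ≤ _
    rw [mul_assoc]
    exact Nat.mul_le_mul_left _ ih

/-- the lower bound -/
theorem chain_card_le [Finite G] (S : Subgroup G) (lv : List (α × List G)) (h : ChainOK lv)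
    (hS : ∀ q ∈ lv, ∀ s ∈ S, s • q.1 = q.1) :
    (lv.map fun q => q.2.length).prod * Nat.card S ≤ Nat.card G :=
  le_trans (chainSet_card S lv h hS) (Set.ncard_le_card _)

end Cfsg.Agent.Lib.Helper4.McL
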