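import Cfsg.Agent.Lib.Helper4.McL.LeechComp
import Cfsg.Agent.Lib.Helper4.McL.Data
import Cfsg.Prelude.Def_Spor_Conway

set_option autoImplicit false

/-!
# Two explicit elements of the McLaughlin group of the definitions

`gA` is a permutation of the coordinates from `M₂₂`; `gB = m₁ ξ m₂ ξ m₃` with monomial maps `mᵢ` and the
map `ξ` of helper14.  Both fix the vectors `(-5, -1^23)` and `(4, 4, 0^22)`.
-/

namespace Cfsg.Agent.Lib.Helper4.McL

open Cfsg
open Cfsg.Agent.Lib.Helper3.Golay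
open Cfsg.Agent.Lib.Helper14.LeechXi
open Cfsg.Agent.Lib.Helper14.LeechMono

theorem hTA : okInv TA TAi = true := by decide
theorem hTA' : okInv TAi TA = true := by decide
theorem hTAc : codeOK TA = true := by decide
theorem hT1 : okInv T1 T1i = true := by decide
theorem hT1' : okInv T1i T1 = true := by decide
theorem hT1c : codeOK T1 = true := by decide
theorem hT2 : okInv T2 T2i = true := by decide
theorem hT2' : okInv T2i T2 = true := by decide
theorem hT2c : codeOK T2 = true := by decide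
theorem hT3 : okInv T3 T3i = true := by decide
theorem hT3' : okInv T3i T3 = true := by decide
theorem hT3c : codeOK T3 = true := by decide

/-- the first generator -/
noncomputable def gA : Equiv.Perm ↥leechLattice :=
  monoT TA TAi hTA hTA' hTAc 0 (by norm_num) (by decide)

/-- the monomial map `m₁` -/
noncomputable def gM1 : Equiv.Perm ↥leechLattice :=
  monoT T1 T1i hT1 hT1' hT1c c1 (by decide) (by decide)

/-- the monomial map `m₂` -/
noncomputable def gM2 : Equiv.Perm ↥leechLattice :=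
  monoT T2 T2i hT2 hT2' hT2c c2 (by decide) (by decide)

/-- the monomial map `m₃` -/
noncomputable def gM3 : Equiv.Perm ↥leechLattice :=
  monoT T3 T3i hT3 hT3' hT3c c3 (by decide) (by decide)

/-- the second generator -/
noncomputable def gB : Equiv.Perm ↥leechLattice := gM1 * xiPerm * gM2 * xiPerm * gM3

/-- the first generator on lists -/
def gAL (l : List ℤ) : List ℤ := spL TAi 0 l

/-- the second generator on lists -/
def gBL (l : List ℤ) : List ℤ := spL T1i c1 (xiL (spL T2i c2 (xiL (spL T3i c3 l))))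

theorem gA_mem_Co0 : gA ∈ Co0 := monoT_mem _ _ _ _ _ _ _ _

theorem gB_mem_Co0 : gB ∈ Co0 :=
  Co0.mul_mem (Co0.mul_mem (Co0.mul_mem (Co0.mul_mem (monoT_mem _ _ _ _ _ _ _ _) xiPerm_mem)
    (monoT_mem _ _ _ _ _ _ _ _)) xiPerm_mem) (monoT_mem _ _ _ _ _ _ _ _)

theorem gA_apply (v : ↥leechLattice) (l : List ℤ) (hv : (v : GolayPt → ℤ) = vecOf l) :
    ((gA v : ↥leechLattice) : GolayPt → ℤ) = vecOf (gAL l) :=
  monoT_apply _ _ _ _ _ _ _ _ v l hv

theorem gB_apply (v : ↥leechLattice) (l : List ℤ) (hv : (v : GolayPt → ℤ) = vecOf l) :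
    ((gB v : ↥leechLattice) : GolayPt → ℤ) = vecOf (gBL l) := by
  unfold gB gBL
  rw [Equiv.Perm.mul_apply, Equiv.Perm.mul_apply, Equiv.Perm.mul_apply, Equiv.Perm.mul_apply]
  have h3 := monoT_apply T3 T3i hT3 hT3' hT3c c3 (by decide) (by decide) v l hv
  have h4 := xiPerm_apply' _ _ h3
  have h5 := monoT_apply T2 T2i hT2 hT2' hT2c c2 (by decide) (by decide) _ _ h4
  have h6 := xiPerm_apply' _ _ h5
  exact monoT_apply T1 T1i hT1 hT1' hT1c c1 (by decide) (by decide) _ _ h6

/-! ### the two fixed vectors -/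

/-- the coordinates of `(-5, -1^23)` -/
def lV : List ℤ := [-1, -1, -1, -1, -1, -1, -1, -1, -1, -1, -1, -1, -1, -1, -1, -1, -1, -1, -1, -1, -1, -1, -1, -5]

/-- the coordinates of `(4, 4, 0^22)` -/
def lU : List ℤ := [4, 0, 0, 0, 0, 0, 0, 0, 0, 0, 0, 0, 0, 0, 0, 0, 0, 0, 0, 0, 0, 0, 0, 4]

theorem vecV_eq : Spor.vecV = vecOf lV := by
  funext p
  revert p
  decide

theorem vecU_eq : Spor.vecU = vecOf lU := by
  funext p
  revert p
  decide

theorem leechV_eq : ((Spor.leechV : ↥leechLattice) : GolayPt → ℤ) = vecOf lV := vecV_eq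

theorem leechU_eq : ((Spor.leechU : ↥leechLattice) : GolayPt → ℤ) = vecOf lU := vecU_eq

theorem gAL_lV : gAL lV = lV := by decide
theorem gAL_lU : gAL lU = lU := by decide
theorem gBL_lV : gBL lV = lV := by decide +kernel
theorem gBL_lU : gBL lU = lU := by decide +kernel

theorem mem_McL_iff (g : Equiv.Perm ↥leechLattice) :
    g ∈ Spor.McL ↔ g ∈ Co0 ∧ g Spor.leechV = Spor.leechV ∧ g Spor.leechU = Spor.leechU := by
  unfold Spor.McL Spor.Co3
  rw [Subgroup.mem_inf, Subgroup.mem_inf, MulAction.mem_stabilizer_iff,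
    MulAction.mem_stabilizer_iff, and_assoc]
  rfl

theorem gA_mem : gA ∈ Spor.McL := by
  rw [mem_McL_iff]
  refine ⟨gA_mem_Co0, Subtype.ext ?_, Subtype.ext ?_⟩
  · rw [gA_apply _ _ leechV_eq, gAL_lV, leechV_eq]
  · rw [gA_apply _ _ leechU_eq, gAL_lU, leechU_eq]

theorem gB_mem : gB ∈ Spor.McL := by
  rw [mem_McL_iff]
  refine ⟨gB_mem_Co0, Subtype.ext ?_, Subtype.ext ?_⟩
  · rw [gB_apply _ _ leechV_eq, gBL_lV, leechV_eq]
  · rw [gB_apply _ _ leechU_eq, gBL_lU, leechU_eq]

end Cfsg.Agent.Lib.Helper4.McL
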