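import Cfsg.Agent.Lib.Helper4.McL.Points

set_option autoImplicit false

/-!
# The homomorphism from the McLaughlin group of the definitions to the permutations of 275 points
-/

namespace Cfsg.Agent.Lib.Helper4.McL

open Cfsg
open Cfsg.Agent.Lib.Helper3.Golay
open Cfsg.Agent.Lib.Helper14.LeechXi
open Cfsg.Agent.Lib.Helper14.LeechMono
open Cfsg.Agent.Lib.Helper10.SX

theorem smul_def' (g : ↥Spor.McL) (x : ↥leechLattice) : g • x = (g : Equiv.Perm ↥leechLattice) x := rfl

/-- the 275 vectors as a set with an action of the group -/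
def XS : SubMulAction ↥Spor.McL ↥leechLattice where
  carrier := X
  smul_mem' := by
    rintro g x ⟨h1, h2, h3⟩
    obtain ⟨hco, hV, hU⟩ := (mem_McL_iff g.1).mp g.2
    rw [smul_def']
    refine ⟨?_, ?_, ?_⟩
    · rw [hco.2, h1]
    · have := dot_pres g.1 hco Spor.leechV x
      rw [hV] at this
      exact this.trans h2
    · have := dot_pres g.1 hco Spor.leechU x
      rw [hU] at this
      exact this.trans h3

theorem XS_smul_val (g : ↥Spor.McL) (x : ↥XS) :
    ((g • x : ↥XS) : ↥leechLattice) = (g : Equiv.Perm ↥leechLattice) x.1 := rfl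

/-- the enumeration of the points of `XS` -/
noncomputable def eXS : Fin 275 ≃ ↥XS := e275

theorem eXS_val (i : Fin 275) : (((eXS i : ↥XS) : ↥leechLattice) : GolayPt → ℤ) = vecOf (P275 i.val) := rfl

/-- the action on the 275 points -/
noncomputable def psi : ↥Spor.McL →* Equiv.Perm (Fin 275) :=
  (eXS.symm.permCongrHom.toMonoidHom).comp (MulAction.toPermHom ↥Spor.McL ↥XS)

theorem psi_apply (g : ↥Spor.McL) (i : Fin 275) : eXS (psi g i) = g • eXS i := by
  show eXS (eXS.symm (g • eXS.symm.symm i)) = g • eXS i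
  rw [Equiv.apply_symm_apply]
  rfl

/-- the image of a group element is a given packed permutation as soon as the lists match -/
theorem psi_eq_perm (g : ↥Spor.McL) (c : ℕ) (hc : Valid 275 c) (gL : List ℤ → List ℤ)
    (hg : ∀ (v : ↥leechLattice) (l : List ℤ), (v : GolayPt → ℤ) = vecOf l →
      (((g : Equiv.Perm ↥leechLattice) v : ↥leechLattice) : GolayPt → ℤ) = vecOf (gL l))
    (hL : ∀ i < 275, gL (P275 i) = P275 (ap 275 c i)) : psi g = perm 275 c := by
  apply Equiv.ext
  intro i
  apply eXS.injective
  rw [psi_apply]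
  apply Subtype.ext
  apply Subtype.ext
  rw [XS_smul_val, hg _ _ (eXS_val i), hL i.val i.isLt, eXS_val, perm_apply_val hc]

theorem invA_1 : invB 275 cA cAi = true := by decide +kernel
theorem invA_2 : invB 275 cAi cA = true := by decide +kernel
theorem invB_1 : invB 275 cB cBi = true := by decide +kernel
theorem invB_2 : invB 275 cBi cB = true := by decide +kernel

theorem valid_A : Valid 275 cA := valid_of_invOf ((invB_iff _ _ _).mp invA_1)
theorem valid_Ai : Valid 275 cAi := valid_of_invOf ((invB_iff _ _ _).mp invA_2)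
theorem valid_B : Valid 275 cB := valid_of_invOf ((invB_iff _ _ _).mp invB_1)
theorem valid_Bi : Valid 275 cBi := valid_of_invOf ((invB_iff _ _ _).mp invB_2)

theorem perm_Ai : perm 275 cAi = (perm 275 cA)⁻¹ :=
  perm_inv_of_invOf ((invB_iff _ _ _).mp invA_1) valid_Ai

theorem perm_Bi : perm 275 cBi = (perm 275 cB)⁻¹ :=
  perm_inv_of_invOf ((invB_iff _ _ _).mp invB_1) valid_Bi

set_option maxRecDepth 100000 in
theorem actA : ∀ i < 275, gAL (P275 i) = P275 (ap 275 cA i) := by decide +kernel

set_option maxRecDepth 100000 in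
theorem actB : ∀ i < 275, gBL (P275 i) = P275 (ap 275 cB i) := by decide +kernel

/-- the first generator in the group -/
noncomputable def mA : ↥Spor.McL := ⟨gA, gA_mem⟩

/-- the second generator in the group -/
noncomputable def mB : ↥Spor.McL := ⟨gB, gB_mem⟩

theorem psi_mA : psi mA = perm 275 cA := psi_eq_perm mA cA valid_A gAL gA_apply actA

theorem psi_mB : psi mB = perm 275 cB := psi_eq_perm mB cB valid_B gBL gB_apply actB

end Cfsg.Agent.Lib.Helper4.McL
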