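import Cfsg.Agent.Lib.Helper4.McL.Iso
import Cfsg.Agent.Lib.Helper10.OutGen

set_option autoImplicit false

/-!
# Tools for the automorphisms of the McLaughlin group on 275 points

Equality of words through the images of the five base points, subgroups given by lists of words with a
multiplication table, codes of elements, conjugates of the involution `t = B⁵`, the relations of the
generating pair `(t, A)`, counting the points moved by a packed permutation, and a conjugacy criterion for
involutions through a Sylow 2-subgroup.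
-/

namespace Cfsg.Agent.Lib.Helper4.McL

open Cfsg
open Cfsg.Agent.Lib.Helper10.SX

attribute [local irreducible] perm

noncomputable section

/-! ### equality of words -/

/-- Boolean equality of the images of the base points under two words -/
def sigEq (w w' : List ℕ) : Bool :=
  [0, 1, 2, 3, 4].all fun x => Nat.beq (evW w x) (evW w' x)

theorem gw_eq_of_sig {w w' : List ℕ} (h : ∀ b < 5, evW w b = evW w' b) : gw w = gw w' := by
  have h1 : (gw w')⁻¹ * gw w = 1 := by
    apply rigid
    intro b hb
    rw [mul_smul, inv_smul_eq_iff]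
    apply Fin.ext
    rw [gw_smul_val, gw_smul_val, fpt_val (by omega)]
    exact h b hb
  rw [inv_mul_eq_one] at h1
  exact h1.symm

theorem sigEq_iff (w w' : List ℕ) : sigEq w w' = true ↔ gw w = gw w' := by
  unfold sigEq
  rw [List.all_eq_true]
  constructor
  · intro h
    apply gw_eq_of_sig
    intro b hb
    apply Nat.eq_of_beq_eq_true
    apply h
    have : b = 0 ∨ b = 1 ∨ b = 2 ∨ b = 3 ∨ b = 4 := by omega
    rcases this with rfl | rfl | rfl | rfl | rfl <;> simp
  · intro h x hx
    have hx' : x < 275 := by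
      simp only [List.mem_cons, List.not_mem_nil, or_false] at hx
      rcases hx with rfl | rfl | rfl | rfl | rfl <;> norm_num
    have := congrArg (fun g : ↥P => (g • (⟨x, hx'⟩ : Fin 275)).val) h
    simp only [gw_smul_val] at this
    rw [this]
    exact Nat.beq_refl _

theorem sigEq_eq_false_iff (w w' : List ℕ) : sigEq w w' = false ↔ gw w ≠ gw w' := by
  rw [Ne, ← sigEq_iff, Bool.not_eq_true]

/-! ### subgroups given by lists of words -/

/-- the word with a given index -/
def wd (Ws : List (List ℕ)) (i : ℕ) : List ℕ := Ws.getD i []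

/-- the products of the words are the words given by the table -/
def tableB (m : ℕ) (Ws : List (List ℕ)) (MT : ℕ → ℕ → ℕ) : Bool :=
  allLt m fun i => allLt m fun j =>
    Nat.blt (MT i j) m && sigEq (wd Ws i ++ wd Ws j) (wd Ws (MT i j))

/-- the words give different elements -/
def distinctB (m : ℕ) (Ws : List (List ℕ)) : Bool :=
  allLt m fun i => allLt i fun j => !(sigEq (wd Ws i) (wd Ws j))

/-- a list of `m` words for different elements, closed under multiplication -/
structure WordGroup (m : ℕ) (Ws : List (List ℕ)) (MT : ℕ → ℕ → ℕ) : Prop where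
  pos : 0 < m
  one : wd Ws 0 = []
  table : tableB m Ws MT = true
  distinct : distinctB m Ws = true

namespace WordGroup

variable {m : ℕ} {Ws : List (List ℕ)} {MT : ℕ → ℕ → ℕ} (h : WordGroup m Ws MT)

include h

theorem mt_lt {i j : ℕ} (hi : i < m) (hj : j < m) : MT i j < m := by
  have := h.table
  unfold tableB at this
  rw [allLt_iff] at this
  have := this i hi
  rw [allLt_iff] at this
  have := this j hj
  rw [Bool.and_eq_true] at this
  simpa [Nat.blt] using this.1

theorem mul_eq {i j : ℕ} (hi : i < m) (hj : j < m) :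
    gw (wd Ws i) * gw (wd Ws j) = gw (wd Ws (MT i j)) := by
  have := h.table
  unfold tableB at this
  rw [allLt_iff] at this
  have := this i hi
  rw [allLt_iff] at this
  have := this j hj
  rw [Bool.and_eq_true] at this
  rw [← gw_append]
  exact (sigEq_iff _ _).mp this.2

theorem inj {i j : ℕ} (hi : i < m) (hj : j < m) (e : gw (wd Ws i) = gw (wd Ws j)) : i = j := by
  have hd := h.distinct
  unfold distinctB at hd
  rw [allLt_iff] at hd
  by_contra hne
  rcases Nat.lt_or_gt_of_ne hne with hlt | hgt
  · have := hd j hj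
    rw [allLt_iff] at this
    have := this i hlt
    rw [Bool.not_eq_true', sigEq_eq_false_iff] at this
    exact this e.symm
  · have := hd i hi
    rw [allLt_iff] at this
    have := this j hgt
    rw [Bool.not_eq_true', sigEq_eq_false_iff] at this
    exact this e

/-- the subgroup of the words -/
def subgroup : Subgroup ↥P where
  carrier := {g | ∃ i, i < m ∧ g = gw (wd Ws i)}
  one_mem' := ⟨0, h.pos, by rw [h.one]; rfl⟩
  mul_mem' := by
    rintro _ _ ⟨i, hi, rfl⟩ ⟨j, hj, rfl⟩
    exact ⟨MT i j, h.mt_lt hi hj, h.mul_eq hi hj⟩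
  inv_mem' := by
    intro g hg
    have hpow : ∀ k : ℕ, g ^ (k + 1) ∈ {g : ↥P | ∃ i, i < m ∧ g = gw (wd Ws i)} := by
      intro k
      induction k with
      | zero => rw [zero_add, pow_one]; exact hg
      | succ k ih =>
        rw [pow_succ]
        obtain ⟨i, hi, e1⟩ := ih
        obtain ⟨j, hj, e2⟩ := hg
        refine ⟨MT i j, h.mt_lt hi hj, ?_⟩
        rw [e1, ← h.mul_eq hi hj, ← e2]
    have ho : 0 < orderOf g := orderOf_pos g
    have : g⁻¹ = g ^ (orderOf g - 1 + 1 + (orderOf g - 1)) := by
      rw [inv_eq_iff_mul_eq_one, ← pow_succ']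
      have : orderOf g - 1 + 1 + (orderOf g - 1) + 1 = orderOf g * 2 := by omega
      rw [this, pow_mul, pow_orderOf_eq_one, one_pow]
    rw [this]
    have := hpow (orderOf g - 1 + (orderOf g - 1))
    have e : orderOf g - 1 + (orderOf g - 1) + 1 = orderOf g - 1 + 1 + (orderOf g - 1) := by omega
    rwa [e] at this

theorem mem_subgroup (g : ↥P) : g ∈ h.subgroup ↔ ∃ i, i < m ∧ g = gw (wd Ws i) := Iff.rfl

theorem gw_mem {i : ℕ} (hi : i < m) : gw (wd Ws i) ∈ h.subgroup := ⟨i, hi, rfl⟩

theorem card_subgroup : Nat.card ↥h.subgroup = m := by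
  let e : Fin m → ↥h.subgroup := fun i => ⟨gw (wd Ws i.val), h.gw_mem i.isLt⟩
  have hb : Function.Bijective e := by
    constructor
    · intro i j he
      exact Fin.ext (h.inj i.isLt j.isLt (congrArg Subtype.val he))
    · rintro ⟨g, i, hi, rfl⟩
      exact ⟨⟨i, hi⟩, rfl⟩
  rw [← Nat.card_congr (Equiv.ofBijective e hb), Nat.card_eq_fintype_card, Fintype.card_fin]

end WordGroup

/-! ### codes of elements -/

/-- the code of the images of the five base points under a word -/
def codeW (w : List ℕ) : ℕ :=
  evW w 0 * 68719476736 + evW w 1 * 134217728 + evW w 2 * 262144 + evW w 3 * 512 + evW w 4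

/-- the code of the images of the five base points under an element -/
def hcode (g : ↥P) : ℕ :=
  (g • fpt 0).val * 68719476736 + (g • fpt 1).val * 134217728 + (g • fpt 2).val * 262144 +
    (g • fpt 3).val * 512 + (g • fpt 4).val

theorem codeW_eq (w : List ℕ) : codeW w = hcode (gw w) := by
  unfold codeW hcode
  rw [gw_smul_val, gw_smul_val, gw_smul_val, gw_smul_val, gw_smul_val, fpt_val (by norm_num),
    fpt_val (by norm_num), fpt_val (by norm_num), fpt_val (by norm_num), fpt_val (by norm_num)]

theorem hcode_injective : Function.Injective hcode := by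
  intro g g' h
  unfold hcode at h
  have b0 := (g • fpt 0).isLt
  have b1 := (g • fpt 1).isLt
  have b2 := (g • fpt 2).isLt
  have b3 := (g • fpt 3).isLt
  have b4 := (g • fpt 4).isLt
  have c0 := (g' • fpt 0).isLt
  have c1 := (g' • fpt 1).isLt
  have c2 := (g' • fpt 2).isLt
  have c3 := (g' • fpt 3).isLt
  have c4 := (g' • fpt 4).isLt
  have e0 : (g • fpt 0).val = (g' • fpt 0).val := by omega
  have e1 : (g • fpt 1).val = (g' • fpt 1).val := by omega
  have e2 : (g • fpt 2).val = (g' • fpt 2).val := by omega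
  have e3 : (g • fpt 3).val = (g' • fpt 3).val := by omega
  have e4 : (g • fpt 4).val = (g' • fpt 4).val := by omega
  have h1 : g'⁻¹ * g = 1 := by
    apply rigid
    intro b hb
    rw [mul_smul, inv_smul_eq_iff]
    apply Fin.ext
    have : b = 0 ∨ b = 1 ∨ b = 2 ∨ b = 3 ∨ b = 4 := by omega
    rcases this with rfl | rfl | rfl | rfl | rfl
    · exact e0
    · exact e1
    · exact e2
    · exact e3
    · exact e4
  rw [inv_mul_eq_one] at h1
  exact h1.symm

/-! ### conjugates of the involution -/

/-- the word of the involution `t = B⁵` -/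
def tw : List ℕ := [2, 2, 2, 2, 2]

/-- the word of the conjugate of the involution by a word -/
def conjW (w : List ℕ) : List ℕ := w ++ (tw ++ winv w)

theorem gw_conjW (w : List ℕ) : gw (conjW w) = gw w * (gw tw * (gw w)⁻¹) := by
  rw [conjW, gw_append, gw_append, gw_winv]

/-- the code of the conjugate of the involution by a word -/
def codeInv (w : List ℕ) : ℕ := codeW (conjW w)

theorem codeInv_eq (w : List ℕ) : codeInv w = hcode (gw (conjW w)) := codeW_eq _

/-! ### powers of words and the relations -/

/-- the power of a word -/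
def rpt : ℕ → List ℕ → List ℕ
  | 0, _ => []
  | m + 1, l => l ++ rpt m l

theorem gw_rpt (m : ℕ) (l : List ℕ) : gw (rpt m l) = gw l ^ m := by
  induction m with
  | zero => rfl
  | succ m ih => rw [rpt, gw_append, ih, pow_succ']

/-- the first relator -/
def rel1 (A Y : List ℕ) : List ℕ := rpt 11 (A ++ Y)

/-- the second relator -/
def rel2 (A Y : List ℕ) : List ℕ := rpt 15 (A ++ rpt 2 Y)

/-- the third relator -/
def rel3 (A Y : List ℕ) : List ℕ := rpt 7 (A ++ rpt 3 Y)

/-- the fourth relator -/
def rel4 (A Y : List ℕ) : List ℕ := rpt 14 (A ++ (Y ++ (A ++ (rpt 2 Y ++ (A ++ rpt 4 Y)))))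

/-- some relation fails for the pair of words -/
def relFailAY (A Y : List ℕ) : Bool :=
  !(sigEq (rel1 A Y) []) || !(sigEq (rel2 A Y) []) || !(sigEq (rel3 A Y) []) ||
    !(sigEq (rel4 A Y) [])

/-- the relations of the generating pair -/
def Rel (a y : ↥P) : Prop :=
  (a * y) ^ 11 = 1 ∧ (a * y ^ 2) ^ 15 = 1 ∧ (a * y ^ 3) ^ 7 = 1 ∧
    (a * (y * (a * (y ^ 2 * (a * y ^ 4))))) ^ 14 = 1

theorem rel_of_not_fail {A Y : List ℕ} (h : relFailAY A Y = false) : Rel (gw A) (gw Y) := by
  unfold relFailAY at h
  simp only [Bool.or_eq_false_iff, Bool.not_eq_false'] at h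
  obtain ⟨⟨⟨h1, h2⟩, h3⟩, h4⟩ := h
  rw [sigEq_iff] at h1 h2 h3 h4
  refine ⟨?_, ?_, ?_, ?_⟩
  · rw [rel1, gw_rpt, gw_append] at h1
    exact h1
  · rw [rel2, gw_rpt, gw_append, gw_rpt] at h2
    exact h2
  · rw [rel3, gw_rpt, gw_append, gw_rpt] at h3
    exact h3
  · rw [rel4, gw_rpt, gw_append, gw_append, gw_append, gw_append, gw_append, gw_rpt, gw_rpt] at h4
    exact h4

theorem not_rel_of_fail {A Y : List ℕ} (h : relFailAY A Y = true) : ¬ Rel (gw A) (gw Y) := by
  rintro ⟨r1, r2, r3, r4⟩
  unfold relFailAY at h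
  simp only [Bool.or_eq_true, Bool.not_eq_true'] at h
  have e1 : sigEq (rel1 A Y) [] = true := by
    rw [sigEq_iff, rel1, gw_rpt, gw_append]
    exact r1
  have e2 : sigEq (rel2 A Y) [] = true := by
    rw [sigEq_iff, rel2, gw_rpt, gw_append, gw_rpt]
    exact r2
  have e3 : sigEq (rel3 A Y) [] = true := by
    rw [sigEq_iff, rel3, gw_rpt, gw_append, gw_rpt]
    exact r3
  have e4 : sigEq (rel4 A Y) [] = true := by
    rw [sigEq_iff, rel4, gw_rpt, gw_append, gw_append, gw_append, gw_append, gw_append, gw_rpt,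
      gw_rpt]
    exact r4
  rw [e1, e2, e3, e4] at h
  simp at h

/-- the relations are preserved by homomorphisms -/
theorem Rel.map {a y : ↥P} (h : Rel a y) (f : ↥P →* ↥P) : Rel (f a) (f y) := by
  obtain ⟨r1, r2, r3, r4⟩ := h
  refine ⟨?_, ?_, ?_, ?_⟩
  · rw [← map_mul, ← map_pow, r1, map_one]
  · rw [← map_pow, ← map_mul, ← map_pow, r2, map_one]
  · rw [← map_pow, ← map_mul, ← map_pow, r3, map_one]
  · rw [← map_pow f y 4, ← map_pow f y 2, ← map_mul, ← map_mul, ← map_mul, ← map_mul, ← map_mul,
      ← map_pow, r4, map_one]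

/-! ### counting -/

/-- the number of the numbers below `n` with a property -/
def cntLt : ℕ → (ℕ → Bool) → ℕ
  | 0, _ => 0
  | n + 1, f => (if f n then 1 else 0) + cntLt n f

theorem cntLt_eq (n : ℕ) (f : ℕ → Bool) :
    cntLt n f = ∑ i ∈ Finset.range n, if f i = true then 1 else 0 := by
  induction n with
  | zero => rfl
  | succ n ih => rw [cntLt, Finset.sum_range_succ, ih, add_comm]

/-- the number of points moved by a packed permutation -/
theorem card_support_perm {n c : ℕ} (hP : Valid n c) :
    (perm n c).support.card = cntLt n fun x => !(Nat.beq (ap n c x) x) := by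
  rw [cntLt_eq, ← Fin.sum_univ_eq_sum_range (fun i => if (!(Nat.beq (ap n c i) i)) = true then 1 else 0),
    Finset.card_eq_sum_ones, ← Finset.sum_filter]
  congr 1
  ext i
  rw [Equiv.Perm.mem_support, Finset.mem_filter, Bool.not_eq_true', Ne, Fin.ext_iff,
    perm_apply_val hP]
  constructor
  · intro h
    refine ⟨Finset.mem_univ _, ?_⟩
    rw [← Bool.not_eq_true]
    intro hb
    exact h (Nat.eq_of_beq_eq_true hb)
  · rintro ⟨-, h⟩ he
    rw [he, Nat.beq_refl] at h
    exact absurd h (by decide)

/-! ### lists -/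

/-- equality of lists of numbers -/
def eqL : List ℕ → List ℕ → Bool
  | [], [] => true
  | a :: l, b :: l' => Nat.beq a b && eqL l l'
  | _, _ => false

theorem eq_of_eqL : ∀ {l l' : List ℕ}, eqL l l' = true → l = l'
  | [], [], _ => rfl
  | a :: l, b :: l', h => by
    rw [eqL, Bool.and_eq_true] at h
    rw [Nat.eq_of_beq_eq_true h.1, eq_of_eqL h.2]
  | [], _ :: _, h => by simp [eqL] at h
  | _ :: _, [], h => by simp [eqL] at h

/-- strictly increasing, from above the bound -/
def incrFrom : ℕ → List ℕ → Bool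
  | _, [] => true
  | lo, a :: l => Nat.blt lo a && incrFrom a l

/-- the parts increase, each from the last entry of the one before -/
def incrAll : ℕ → List (List ℕ) → Bool
  | _, [] => true
  | lo, l :: L => incrFrom lo l && incrAll (l.getLastD lo) L

theorem map_eq_of_zip {α β : Type*} (f : α → β) :
    ∀ (A : List (List α)) (B : List (List β)), A.length = B.length →
      (∀ p ∈ List.zip A B, p.1.map f = p.2) → A.map (List.map f) = B
  | [], [], _, _ => rfl
  | a :: A, b :: B, hl, h => by
    rw [List.map_cons, h (a, b) (by rw [List.zip_cons_cons]; exact List.mem_cons_self),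
      map_eq_of_zip f A B (by simpa using hl) (fun p hp => h p (by
        rw [List.zip_cons_cons]; exact List.mem_cons_of_mem _ hp))]
  | [], _ :: _, hl, _ => by simp at hl
  | _ :: _, [], hl, _ => by simp at hl

theorem incrFrom_lt : ∀ (l : List ℕ) (lo : ℕ), incrFrom lo l = true → ∀ b ∈ l, lo < b
  | [], _, _, b, hb => absurd hb List.not_mem_nil
  | c :: l, a, h, b, hb => by
    rw [incrFrom, Bool.and_eq_true] at h
    have hac : a < c := by simpa [Nat.blt] using h.1
    rcases List.mem_cons.mp hb with rfl | hb'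
    · exact hac
    · exact lt_trans hac (incrFrom_lt l c h.2 b hb')

theorem nodup_of_incrFrom : ∀ (l : List ℕ) (lo : ℕ), incrFrom lo l = true → l.Nodup
  | [], _, _ => List.nodup_nil
  | a :: l, lo, h => by
    rw [incrFrom, Bool.and_eq_true] at h
    rw [List.nodup_cons]
    exact ⟨fun ha => lt_irrefl a (incrFrom_lt l a h.2 a ha), nodup_of_incrFrom l a h.2⟩

theorem incrFrom_append : ∀ (l m : List ℕ) (lo : ℕ),
    incrFrom lo (l ++ m) = (incrFrom lo l && incrFrom (l.getLastD lo) m)
  | [], m, lo => by simp [incrFrom]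
  | a :: l, m, lo => by
    rw [List.cons_append, incrFrom, incrFrom, incrFrom_append l m a, List.getLastD_cons,
      Bool.and_assoc]

theorem incrFrom_flatten : ∀ (L : List (List ℕ)) (lo : ℕ), incrAll lo L = true →
    incrFrom lo L.flatten = true
  | [], _, _ => rfl
  | l :: L, lo, h => by
    rw [incrAll, Bool.and_eq_true] at h
    rw [List.flatten_cons, incrFrom_append, Bool.and_eq_true]
    exact ⟨h.1, incrFrom_flatten L _ h.2⟩

end

/-! ### conjugacy of involutions through a Sylow 2-subgroup -/

/-- when a subgroup of order `2 ^ k`, where `2 ^ k` is the full power of two in the order of the group, has all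
its involutions conjugate to `t`, all involutions of the group are conjugate -/
theorem isConj_involutions_of_sylow {J : Type*} [Group J] [Finite J] (t : J) (m k : ℕ) (hm : Odd m)
    (hJ : Nat.card J = 2 ^ k * m) (S : Subgroup J) (hS : Nat.card S = 2 ^ k)
    (hinv : ∀ y ∈ S, orderOf y = 2 → IsConj t y) :
    ∀ x y : J, orderOf x = 2 → orderOf y = 2 → IsConj x y := by
  have : Fact (Nat.Prime 2) := ⟨Nat.prime_two⟩
  have hSp : IsPGroup 2 S := IsPGroup.of_card hS
  obtain ⟨P', hP'⟩ := hSp.exists_le_sylow
  have hP'card : Nat.card P' = 2 ^ k := by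
    obtain ⟨n, hn⟩ := IsPGroup.iff_card.mp P'.isPGroup'
    have hdvd : 2 ^ n ∣ 2 ^ k * m := by
      rw [← hn, ← hJ]
      exact Subgroup.card_subgroup_dvd_card _
    have hcop : Nat.Coprime (2 ^ n) m := Nat.Coprime.pow_left n (Nat.coprime_two_left.mpr hm)
    have h1 : 2 ^ n ∣ 2 ^ k := hcop.dvd_of_dvd_mul_right hdvd
    have h2 : 2 ^ k ≤ 2 ^ n := by
      rw [← hn, ← hS]
      exact Subgroup.card_le_of_le hP'
    exact hn.trans (Nat.le_antisymm (Nat.le_of_dvd (by positivity) h1) h2)
  have hSP : S = ↑P' := Subgroup.eq_of_le_of_card_ge hP' (by rw [hS, hP'card])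
  have key : ∀ x : J, orderOf x = 2 → IsConj t x := by
    intro x hx
    have hxp : IsPGroup 2 (Subgroup.zpowers x) :=
      IsPGroup.of_card (n := 1) (by rw [Nat.card_zpowers, hx, pow_one])
    obtain ⟨Q, hQ⟩ := hxp.exists_le_sylow
    obtain ⟨g, hg⟩ := MulAction.exists_smul_eq J Q P'
    have hxQ : x ∈ (Q : Subgroup J) := hQ (Subgroup.mem_zpowers x)
    have hmem : g * x * g⁻¹ ∈ (P' : Subgroup J) := by
      rw [← hg, Sylow.coe_subgroup_smul]
      exact ⟨x, hxQ, rfl⟩
    rw [← hSP] at hmem
    have hy2 : orderOf (g * x * g⁻¹) = 2 := by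
      rw [← MulAut.conj_apply, MulEquiv.orderOf_eq]
      exact hx
    have h1 := hinv _ hmem hy2
    exact h1.trans (isConj_iff.mpr ⟨g⁻¹, by group⟩)
  intro x y hx hy
  exact (key x hx).symm.trans (key y hy)

end Cfsg.Agent.Lib.Helper4.McL
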