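import Cfsg.Agent.Lib.Helper4.McL.Gens
import Cfsg.Agent.Lib.Helper10.SXTree
import Cfsg.Agent.S1580
import Cfsg.Agent.S0404

set_option autoImplicit false

/-!
# The 275 points of the McLaughlin group of the definitions

The set `X` of the 275 lattice vectors `x` with `x·x = 32`, `x·(-5,-1^23) = -24`, `x·(4,4,0^22) = 16`, listed
explicitly; the action of the group on it gives a homomorphism to the permutations of `Fin 275`, and the
images of the two explicit elements are the packed permutations `cA`, `cB`.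
-/

namespace Cfsg.Agent.Lib.Helper4.McL

open Cfsg
open Cfsg.Agent.Lib.Helper3.Golay
open Cfsg.Agent.Lib.Helper14.LeechXi
open Cfsg.Agent.Lib.Helper14.LeechMono
open Cfsg.Agent.Lib.Helper10.SX

/-- the order of the McLaughlin group -/
abbrev NMcL : ℕ := 898128000

/-- the `i`-th vector, as a list -/
def P275 (i : ℕ) : List ℤ := List.map (fun a : ℕ => (a : ℤ) - 8) (ptsN.getD i [])

/-- the norm on lists -/
def sqL (l : List ℤ) : ℤ := ((List.range 24).map fun i => l.getD i 0 ^ 2).sum

/-- the inner product on lists -/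
def dotL (l l' : List ℤ) : ℤ := ((List.range 24).map fun i => l.getD i 0 * l'.getD i 0).sum

/-- the conditions on a vector of the list -/
def okPt (l : List ℤ) : Bool :=
  l.length == 24 && chk (vecOf l) && sqL l == 32 && dotL lV l == -24 && dotL lU l == 16

set_option maxRecDepth 100000 in
theorem okPts : ∀ i < 275, okPt (P275 i) = true := by decide +kernel

set_option maxRecDepth 100000 in
theorem ptsN_ne : ∀ i < 275, ∀ j < i, ptsN.getD i [] ≠ ptsN.getD j [] := by decide +kernel

theorem ptsN_length : ptsN.length = 275 := by decide +kernel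

/-- the set of the 275 vectors -/
def X : Set ↥leechLattice :=
  {x | sqNorm (x : GolayPt → ℤ) = 32 ∧ dotInt Spor.vecV (x : GolayPt → ℤ) = -24 ∧
    dotInt Spor.vecU (x : GolayPt → ℤ) = 16}

theorem dotInt_neg_left (a b : GolayPt → ℤ) : dotInt (-a) b = -dotInt a b := by
  unfold dotInt
  rw [← Finset.sum_neg_distrib]
  apply Finset.sum_congr rfl
  intro i _
  rw [Pi.neg_apply, neg_mul]

theorem normV : sqNorm ((-Spor.leechV : ↥leechLattice) : GolayPt → ℤ) = 48 := by
  show sqNorm (-Spor.vecV) = 48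
  decide +kernel

theorem normU : sqNorm ((Spor.leechU : ↥leechLattice) : GolayPt → ℤ) = 32 := by
  show sqNorm Spor.vecU = 32
  decide +kernel

theorem normVU : sqNorm (((-Spor.leechV : ↥leechLattice) : GolayPt → ℤ) -
    ((Spor.leechU : ↥leechLattice) : GolayPt → ℤ)) = 32 := by
  show sqNorm (-Spor.vecV - Spor.vecU) = 32
  decide +kernel

theorem dotVU : dotInt ((-Spor.leechV : ↥leechLattice) : GolayPt → ℤ)
    ((Spor.leechU : ↥leechLattice) : GolayPt → ℤ) = 24 := by
  show dotInt (-Spor.vecV) Spor.vecU = 24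
  decide +kernel

theorem ncard_X : X.ncard = 275 := by
  have h := (Cfsg.Agent.S1580.result (-Spor.leechV) Spor.leechU normV ⟨normU, normVU⟩).1
  rw [← h]
  congr 1
  ext x
  show (_ ∧ _ ∧ _) ↔ (_ ∧ _ ∧ _)
  constructor
  · rintro ⟨h1, h2, h3⟩
    refine ⟨h1, ?_, h3⟩
    rw [Cfsg.Agent.Lib.Helper14.LeechMcL.sub_norm_iff _ _ normV h1]
    show dotInt (-Spor.vecV) _ = 24
    rw [dotInt_neg_left, h2]
    rfl
  · rintro ⟨h1, h2, h3⟩
    refine ⟨h1, ?_, h3⟩
    rw [Cfsg.Agent.Lib.Helper14.LeechMcL.sub_norm_iff _ _ normV h1] at h2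
    have h2' : dotInt (-Spor.vecV) (x : GolayPt → ℤ) = 24 := h2
    rw [dotInt_neg_left] at h2'
    omega

instance finite_X : Finite ↥X :=
  Set.finite_coe_iff.mpr (Set.finite_of_ncard_ne_zero (by rw [ncard_X]; norm_num))

theorem card_X : Nat.card ↥X = 275 := by
  rw [Nat.card_coe_set_eq, ncard_X]

theorem okPt_spec {l : List ℤ} (h : okPt l = true) :
    l.length = 24 ∧ vecOf l ∈ leechLattice ∧ sqNorm (vecOf l) = 32 ∧
      dotInt Spor.vecV (vecOf l) = -24 ∧ dotInt Spor.vecU (vecOf l) = 16 := by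
  unfold okPt at h
  simp only [Bool.and_eq_true, beq_iff_eq] at h
  obtain ⟨⟨⟨⟨h1, h2⟩, h3⟩, h4⟩, h5⟩ := h
  refine ⟨h1, chk_sound _ h2, ?_, ?_, ?_⟩
  · rw [sqNorm_vecOf]; exact h3
  · rw [vecV_eq, dotInt_vecOf]; exact h4
  · rw [vecU_eq, dotInt_vecOf]; exact h5

/-- the `i`-th point -/
def pt275 (i : Fin 275) : ↥X :=
  ⟨⟨vecOf (P275 i.val), (okPt_spec (okPts i.val i.isLt)).2.1⟩,
    (okPt_spec (okPts i.val i.isLt)).2.2⟩

theorem pt275_val (i : Fin 275) : ((pt275 i : ↥leechLattice) : GolayPt → ℤ) = vecOf (P275 i.val) := rfl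

theorem pt275_injective : Function.Injective pt275 := by
  intro i j h
  have h1 : vecOf (P275 i.val) = vecOf (P275 j.val) := by
    rw [← pt275_val, ← pt275_val, h]
  have h2 := eq_of_vecOf_eq (okPt_spec (okPts i.val i.isLt)).1 (okPt_spec (okPts j.val j.isLt)).1 h1
  unfold P275 at h2
  have hinj : Function.Injective (fun a : ℕ => (a : ℤ) - 8) := by
    intro a b hab
    simp only [sub_left_inj, Nat.cast_inj] at hab
    exact hab
  have h3 := List.map_injective_iff.mpr hinj h2
  rcases Nat.lt_trichotomy i.val j.val with hlt | heq | hgt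
  · exact absurd h3.symm (ptsN_ne j.val j.isLt i.val hlt)
  · exact Fin.ext heq
  · exact absurd h3 (ptsN_ne i.val i.isLt j.val hgt)

theorem pt275_bijective : Function.Bijective pt275 :=
  pt275_injective.bijective_of_nat_card_le (by rw [card_X, Nat.card_eq_fintype_card, Fintype.card_fin])

/-- the enumeration of the 275 points -/
noncomputable def e275 : Fin 275 ≃ ↥X := Equiv.ofBijective pt275 pt275_bijective

theorem e275_apply (i : Fin 275) : e275 i = pt275 i := rfl

end Cfsg.Agent.Lib.Helper4.McL
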