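import Mathlib

set_option autoImplicit false

/-!
# Data for the centraliser of an involution of the McLaughlin group on 275 points (generated)

* `FXl`: the 35 points fixed by the involution `t = B⁵`;
* `dmL`: for `i ≠ j` below 8, the set (a bit mask on the indices of `FXl`) of the fixed points which, as partitions of
  8 objects into two parts of size 4, have `i` and `j` in the same part;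
* `LC1, LC2, LC3`: the words of the three levels of the chain `lvC` in the centraliser;
* `PC1, PC2, PC3`: the permutations of the 8 objects they induce;
* `xW`: a word whose square is the involution.
-/

namespace Cfsg.Agent.Lib.Helper4.McL

/-- the points fixed by the involution -/
def FXl : List ℕ := [1, 3, 13, 29, 31, 36, 42, 48, 53, 68, 94, 108, 112, 117, 119, 124, 125, 128, 144, 156, 157, 170, 171, 179, 190, 205, 214, 217, 223, 235, 242, 244, 258, 268, 274]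

/-- the masks of the 28 pairs of objects -/
def dmL : List (List ℕ) := [
  [0, 11334117578, 6226745091, 16178092646, 26116064924, 24046035245, 251474256, 18926685361],
  [11334117578, 0, 17973346358, 28322368851, 14106268073, 3308156440, 22860146277, 5174811524],
  [6226745091, 17973346358, 0, 22692328090, 2558062176, 13247318481, 27953355180, 12428059725],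
  [16178092646, 28322368851, 22692328090, 0, 9379930885, 7028901044, 18073834697, 1403758888],
  [26116064924, 14106268073, 2558062176, 9379930885, 0, 19094378574, 8147519539, 23676990930],
  [24046035245, 3308156440, 13247318481, 7028901044, 19094378574, 0, 10339200898, 26015224419],
  [251474256, 22860146277, 27953355180, 18073834697, 8147519539, 10339200898, 0, 15453684254],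
  [18926685361, 5174811524, 12428059725, 1403758888, 23676990930, 26015224419, 15453684254, 0]]

/-- the words of level 1 of the chain in the centraliser -/
def LC1 : List (List ℕ) := [
  [],
  [1, 2, 1, 3, 0, 2, 2, 2, 2, 0, 3, 1, 1, 1, 2, 2, 1, 1],
  [3, 3, 1, 1, 3, 0, 3, 3, 1, 3, 0, 3, 0, 0, 3, 1, 3, 3],
  [0, 3, 1, 3, 0, 2, 0, 0, 3, 0, 3, 3, 3, 0, 3, 1, 3],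
  [1, 2, 1, 2, 1, 2, 0, 2, 2, 1, 1, 3, 1, 3, 3, 0, 3, 3],
  [3, 1, 2, 1, 1, 1, 1, 2, 0, 2, 1, 2, 1, 1, 1, 2, 0, 0, 0, 3],
  [0, 0, 3, 3, 3, 0, 2, 0, 3, 3, 0, 2, 0, 3, 3, 3, 1, 2],
  [0, 0, 2, 1, 3, 3, 3, 1, 1, 2, 2, 1, 3, 1, 2, 0, 0, 2],
  [2, 0, 2, 0, 3, 0, 0, 0, 0, 2, 2, 2, 0, 0, 3, 0, 3, 0],
  [1, 2, 1, 1, 1, 1, 2, 0, 2, 2, 1, 2, 2, 1, 3, 3, 3, 1, 2],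
  [3, 0, 3, 1, 2, 0, 0, 3, 1, 3, 3, 1, 1, 3, 0, 2, 0, 0],
  [0, 2, 2, 1, 1, 2, 1, 2, 0, 0, 2, 0, 2, 0, 3, 0, 3, 0, 3],
  [1, 2, 2, 1, 3, 3, 0, 0, 3, 3, 0, 0, 0, 3, 0, 3, 1, 3, 0],
  [0, 0, 3, 0, 0, 3, 3, 1, 1, 2, 0, 3, 1, 3, 0, 0, 3, 0, 3],
  [1, 3, 3, 1, 2, 0, 2, 1, 2, 0, 2, 2, 2, 0, 0, 3, 1, 2, 2],
  [1, 1, 2, 0, 0, 0, 0, 3, 1, 3, 1, 1, 3, 1, 1, 1, 2, 2],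
  [0, 3, 3, 0, 3, 0, 3, 1, 3, 3, 3, 3, 1, 1, 3, 0, 0, 2, 2],
  [0, 0, 0, 2, 2, 0, 2, 0, 2, 1, 3, 3, 3, 3, 1, 1],
  [0, 0, 0, 2, 2, 1, 3, 1, 1, 2, 1, 3, 3, 1, 2, 1, 1, 3],
  [2, 0, 0, 2, 1, 3, 1, 2, 1, 3, 1, 2, 2, 0, 3, 3, 1, 3, 3],
  [3, 0, 0, 3, 0, 0, 2, 2, 1, 2, 2, 0, 0, 2, 1, 1, 1, 1],
  [3, 0, 2, 1, 2, 1, 1, 1, 2, 1, 2, 2, 0, 0, 0, 2, 0, 2, 0],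
  [3, 0, 0, 0, 2, 2, 0, 2, 2, 0, 2, 2, 0, 3, 3, 1, 3, 1],
  [2, 2, 0, 0, 2, 1, 3, 3, 0, 0, 0, 0, 3, 1, 2, 1, 3, 3, 0],
  [1, 3, 1, 2, 1, 3, 0, 3, 3, 0, 0, 2, 0, 0, 0, 2, 0, 0],
  [2, 2, 0, 2, 0, 2, 0, 3, 0, 3, 1, 2, 0, 3, 3, 1, 3, 3, 0],
  [2, 2, 1, 1, 2, 0, 0, 0, 0, 3, 1, 3, 1, 1, 3, 1, 1, 1, 3],
  [0, 2, 0, 0, 0, 0, 0, 2, 0, 0, 2, 1, 3, 3, 1, 3, 1, 3, 3, 1],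
  [3, 1, 2, 0, 0, 2, 1, 2, 2, 0, 3, 1, 3, 0, 3, 3, 3],
  [3, 1, 2, 2, 2, 2, 0, 0, 2, 1, 2, 1, 3, 3, 3, 3, 1, 1, 1],
  [2, 2, 0, 2, 1, 3, 1, 1, 1, 3, 1, 2, 0, 3, 1, 1, 2],
  [1, 1, 1, 1, 2, 2, 0, 0, 2, 1, 2, 2, 1, 2, 2, 2],
  [3, 0, 3, 0, 2, 0, 3, 0, 2, 0, 3, 0, 3, 0, 2, 2, 1, 1, 3],
  [0, 2, 2, 1, 1, 3, 3, 1, 3, 3, 0, 3, 3, 3, 0, 0, 0, 2, 2],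
  [2, 0, 0, 2, 1, 2, 2, 1, 3, 1, 3, 3, 0, 0, 2, 0, 0, 2]]

/-- the permutations of the 8 objects induced by the words of level 1 -/
def PC1 : List (List ℕ) := [
  [0, 1, 2, 3, 4, 5, 6, 7],
  [2, 4, 3, 7, 6, 1, 5, 0],
  [0, 1, 4, 7, 6, 3, 2, 5],
  [5, 6, 4, 7, 2, 1, 3, 0],
  [6, 2, 7, 3, 5, 0, 1, 4],
  [5, 6, 3, 1, 4, 0, 2, 7],
  [5, 3, 4, 6, 1, 2, 0, 7],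
  [4, 2, 7, 3, 5, 0, 6, 1],
  [0, 3, 6, 4, 1, 5, 7, 2],
  [5, 3, 1, 2, 4, 6, 0, 7],
  [1, 0, 5, 7, 2, 3, 4, 6],
  [7, 6, 3, 2, 4, 1, 5, 0],
  [0, 1, 2, 4, 5, 6, 7, 3],
  [1, 7, 0, 4, 2, 5, 3, 6],
  [5, 3, 1, 6, 4, 0, 2, 7],
  [2, 6, 0, 3, 7, 1, 5, 4],
  [5, 3, 4, 1, 2, 0, 7, 6],
  [3, 5, 7, 1, 6, 0, 2, 4],
  [1, 0, 5, 2, 7, 3, 6, 4],
  [1, 0, 5, 6, 7, 2, 3, 4],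
  [4, 0, 5, 7, 6, 3, 1, 2],
  [3, 0, 5, 4, 2, 7, 6, 1],
  [6, 7, 0, 4, 2, 5, 1, 3],
  [2, 4, 3, 6, 1, 5, 0, 7],
  [5, 3, 1, 4, 6, 0, 7, 2],
  [7, 6, 4, 0, 1, 3, 2, 5],
  [6, 5, 0, 2, 7, 3, 1, 4],
  [3, 5, 2, 0, 7, 4, 6, 1],
  [6, 5, 7, 0, 2, 1, 4, 3],
  [4, 2, 5, 7, 0, 3, 1, 6],
  [6, 2, 5, 7, 0, 1, 3, 4],
  [1, 6, 0, 2, 7, 5, 4, 3],
  [2, 4, 3, 1, 6, 5, 7, 0],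
  [4, 6, 0, 5, 7, 3, 2, 1],
  [3, 4, 1, 7, 5, 2, 0, 6]]

/-- the words of level 2 of the chain in the centraliser -/
def LC2 : List (List ℕ) := [
  [],
  [3, 0, 0, 3, 3, 0, 2, 1, 3, 3, 3, 0, 3, 0, 3, 1, 3, 1, 2],
  [1, 1, 2, 0, 0, 0, 3, 3, 0, 3, 3, 1, 1, 1, 1, 3, 3, 3, 0],
  [1, 3, 3, 1, 1, 2, 2, 1, 1, 2, 1, 3, 1, 1, 3, 1, 1, 3, 0],
  [1, 1, 3, 1, 3, 3, 0, 3, 3, 0, 0, 2, 1, 3, 1, 3, 1, 1],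
  [3, 0, 2, 2, 0, 0, 3, 0, 3, 3, 1, 3, 1, 2, 1, 1, 1, 3],
  [2, 0, 0, 0, 0, 2, 2, 0, 2, 2, 1, 2, 2, 1, 2, 1, 3, 3],
  [0, 3, 0, 0, 3, 1, 1, 3, 1, 1, 2, 0, 0, 0, 3, 3, 1, 2, 0],
  [1, 1, 3, 1, 2, 2, 2, 2, 0, 2, 1, 2, 2, 2, 2, 0, 3, 0],
  [2, 2, 2, 0, 3, 1, 1, 3, 0, 3, 0, 2, 1, 2, 2, 0, 3, 0, 3],
  [1, 3, 0, 0, 0, 3, 0, 0, 3, 0, 0, 0, 0, 3, 0, 2, 2, 1, 1],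
  [2, 2, 1, 3, 0, 2, 1, 3, 3, 1, 3, 0, 0, 0, 3, 1, 2, 0],
  [2, 2, 1, 3, 0, 3, 1, 2, 0, 0, 0, 3, 0, 0, 3, 0, 2, 0],
  [2, 1, 1, 3, 1, 3, 3, 0, 2, 0, 2, 2, 1, 3, 1, 1],
  [3, 0, 2, 1, 1, 3, 3, 3, 0, 0, 0, 3, 0, 0, 0, 3, 0, 0, 0],
  [0, 0, 0, 0, 2, 1, 3, 3, 3, 1, 2, 1, 3, 1, 3, 1, 2, 1, 3, 0],
  [3, 0, 2, 1, 3, 3, 0, 0, 0, 0, 2, 0, 2, 1, 1, 2, 0, 0, 2],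
  [3, 0, 2, 1, 1, 3, 3, 1, 2, 1, 2, 2, 2, 1, 2, 0, 3, 1, 2],
  [1, 3, 3, 0, 3, 1, 1, 2, 1, 1, 2, 2, 1, 2, 2, 0],
  [1, 2, 0, 2, 0, 2, 0, 3, 0, 2, 1, 1, 3, 1, 3, 3, 0, 3, 0],
  [3, 0, 2, 0, 0, 3, 1, 1, 3, 1, 1, 1, 3, 0, 2, 1, 1],
  [0, 0, 2, 0, 0, 3, 0, 3, 3, 0, 3, 0, 3, 3, 1, 2, 0],
  [1, 3, 0, 2, 1, 3, 0, 3, 0, 2, 2, 2, 2, 0, 3, 3, 0],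
  [3, 0, 0, 0, 2, 0, 3, 1, 2, 1, 2, 1, 2, 1, 2, 0, 2, 1],
  [3, 0, 3, 1, 3, 0, 0, 0, 2, 1, 1, 1, 1, 3, 1, 1],
  [1, 3, 1, 2, 0, 2, 0, 0, 3, 0, 2, 0, 3, 1, 3, 3, 3, 1, 3],
  [2, 1, 2, 2, 2, 0, 0, 0, 3, 1, 1, 1, 2, 0, 2, 2, 0, 0, 0],
  [2, 2, 0, 3, 0, 3, 3, 0, 3, 3, 1, 3, 3, 1, 1, 1, 1, 3],
  [1, 1, 3, 0, 3, 1, 2, 2, 0, 2, 2, 0, 3, 0, 3, 1, 2, 1, 3],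
  [1, 3, 1, 2, 0, 0, 3, 1, 1, 1, 1, 2, 2, 0, 3, 1, 3, 3, 1],
  [0, 3, 0, 0, 0, 3, 0, 3, 1, 1, 2, 1, 1, 2, 0, 3, 3],
  [2, 0, 0, 3, 0, 0, 3, 3, 3, 0, 0, 2, 0, 2, 1, 1],
  [3, 1, 3, 1, 2, 1, 3, 3, 1, 3, 1, 2, 1, 2, 0, 2, 1, 2],
  [0, 2, 2, 2, 0, 3, 3, 0, 3, 3, 1, 3, 0, 0, 0, 0, 3, 0],
  [3, 1, 3, 0, 3, 0, 2, 2, 1, 2, 0, 0, 3, 0, 2, 1, 2, 0],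
  [3, 3, 0, 2, 0, 0, 0, 0, 2, 0, 0, 3, 1, 2, 1, 3, 1, 3, 0],
  [2, 2, 1, 1, 3, 3, 1, 2, 0, 0, 3, 3, 0, 3, 3, 0, 2, 0, 2],
  [3, 1, 2, 1, 2, 0, 2, 0, 2, 1, 1, 2, 0, 0, 3, 0, 0, 2, 0],
  [1, 2, 1, 1, 2, 1, 1, 1, 2, 2, 0, 2, 1, 1, 3, 0, 3, 1, 2, 1],
  [2, 2, 1, 2, 0, 2, 2, 1, 1, 1, 1, 2, 1, 1, 1, 2, 1, 2, 0, 2],
  [3, 0, 0, 2, 2, 0, 2, 1, 3, 0, 2, 0, 2, 0, 2, 1, 2, 2, 0],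
  [1, 1, 3, 0, 3, 1, 1, 2, 1, 3, 3, 3, 1, 1, 3, 3, 0, 2, 2],
  [3, 3, 1, 3, 0, 0, 2, 0, 0, 0, 2, 1, 2, 0, 3, 1, 3],
  [0, 0, 2, 1, 3, 3, 0, 3, 1, 3, 1, 1, 2, 1, 1, 1, 3, 1, 1],
  [0, 3, 3, 1, 2, 0, 2, 1, 2, 1, 2, 2, 1, 1, 3, 0, 0, 0],
  [0, 2, 1, 1, 1, 1, 1, 2, 1, 2, 0, 3, 3, 0, 3, 3, 3, 0, 3],
  [0, 2, 2, 0, 3, 3, 1, 1, 3, 3, 3, 0, 2, 1, 2, 0, 0],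
  [1, 2, 1, 3, 0, 2, 2, 1, 2, 0, 3, 1, 1, 1, 2, 1, 2, 2],
  [2, 2, 0, 2, 2, 0, 3, 1, 2, 2, 0, 3, 3, 1, 2, 1, 2, 2],
  [1, 2, 1, 1, 3, 0, 3, 0, 2, 0, 0, 2, 2, 1, 3, 0, 0, 0],
  [0, 2, 1, 1, 2, 0, 0, 0, 2, 2, 1, 1, 1, 1, 3, 0, 3, 0],
  [3, 0, 2, 1, 1, 2, 2, 2, 1, 1, 3, 3, 3, 3, 3, 1, 1, 2, 1],
  [0, 3, 0, 2, 0, 3, 3, 0, 0, 0, 3, 0, 3, 1, 1, 2, 2, 0, 2],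
  [0, 0, 3, 1, 2, 2, 1, 3, 3, 3, 1, 1, 2, 1, 1, 3, 0, 2, 1],
  [2, 2, 1, 3, 1, 2, 1, 1, 1, 3, 3, 0, 0, 0, 3, 0, 2, 0, 2],
  [0, 0, 2, 1, 1, 3, 0, 0, 2, 0, 3, 0, 3, 1, 2, 1],
  [0, 2, 0, 0, 2, 0, 0, 0, 2, 1, 1, 3, 1, 1, 1, 1, 3, 1],
  [1, 3, 0, 0, 2, 1, 3, 0, 0, 0, 3, 0, 0, 2, 1, 1, 1, 2, 0],
  [0, 0, 2, 2, 1, 1, 3, 0, 2, 0, 0, 3, 3, 3, 1, 3],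
  [0, 3, 0, 2, 1, 3, 1, 3, 3, 1, 2, 2, 2, 1, 3, 0, 2, 0, 2],
  [3, 3, 1, 2, 1, 3, 0, 0, 3, 0, 3, 1, 1, 3, 3, 0, 2, 0],
  [2, 1, 2, 2, 0, 0, 0, 3, 0, 0, 0, 3, 0, 3, 3, 0, 2, 1],
  [0, 2, 2, 2, 2, 0, 0, 3, 1, 2, 0, 2, 0, 0, 0, 3, 1, 1],
  [2, 1, 3, 3, 3, 1, 2, 2, 0, 2, 0, 3, 3, 0, 0, 2, 0, 3, 1],
  [1, 2, 1, 2, 2, 1, 3, 1, 3, 0, 3, 1, 2, 2, 0, 2],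
  [1, 3, 1, 2, 1, 3, 3, 1, 3, 0, 0, 3, 0, 2, 0, 2, 2, 1, 1],
  [0, 3, 1, 2, 2, 0, 2, 0, 2, 1, 2, 0, 3, 1, 1, 1, 3, 1, 3],
  [2, 2, 0, 2, 1, 3, 3, 3, 1, 3, 1, 1, 1, 2, 1, 1, 3],
  [3, 1, 1, 3, 0, 0, 3, 1, 3, 1, 1, 1, 1, 2, 2, 0, 3, 1, 2],
  [0, 3, 3, 0, 3, 1, 2, 1, 2, 0, 0, 2, 0, 0, 0, 3, 3],
  [2, 0, 3, 1, 3, 1, 3, 3, 0, 0, 2, 2, 0, 3, 1, 1, 2, 1, 3, 3],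
  [3, 1, 1, 3, 1, 2, 0, 2, 1, 1, 3, 0, 3, 0, 0, 0, 2, 2, 0],
  [0, 2, 2, 1, 1, 3, 3, 1, 3, 0, 2, 2, 2, 0, 0, 2, 0, 3, 0],
  [3, 3, 1, 1, 3, 3, 3, 0, 0, 3, 1, 3, 3, 1, 1, 3, 3, 0, 2, 1],
  [0, 3, 1, 2, 1, 2, 2, 0, 3, 0, 3, 1, 3, 3, 0, 0, 0, 3],
  [3, 3, 0, 2, 0, 2, 1, 2, 1, 2, 2, 2, 0, 3, 1, 2, 2, 1, 1],
  [1, 1, 1, 3, 1, 1, 2, 1, 1, 2, 2, 1, 3, 3, 3, 1],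
  [3, 0, 3, 1, 1, 3, 1, 3, 0, 3, 0, 3, 1, 2, 1, 1, 1, 1],
  [0, 0, 2, 2, 1, 3, 0, 0, 0, 0, 2, 2, 1, 2, 0, 2, 2],
  [1, 2, 0, 3, 1, 1, 1, 3, 1, 3, 1, 1, 1, 1, 2, 1, 1],
  [0, 0, 3, 1, 3, 1, 1, 3, 1, 2, 1, 3, 3, 1, 3, 0, 2, 1, 2],
  [1, 3, 1, 1, 3, 1, 2, 2, 1, 1, 3, 1, 2, 1, 2, 1, 1, 2, 2],
  [0, 2, 1, 2, 0, 0, 0, 0, 0, 3, 3, 0, 2, 0, 2, 2, 0, 3, 1],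
  [3, 3, 1, 3, 0, 3, 3, 1, 1, 1, 1, 2, 0, 3, 3, 1, 1],
  [2, 2, 2, 2, 2],
  [3, 0, 3, 1, 1, 2, 2, 1, 2, 0, 3, 0, 2, 2, 2, 0],
  [1, 1, 2, 0, 0, 3, 0, 2, 1, 2, 0, 3, 0, 0, 3, 1, 1],
  [3, 1, 1, 1, 2, 0, 2, 2, 1, 2, 2, 0, 2, 1, 3, 1, 3, 3, 3],
  [1, 3, 3, 1, 1, 3, 1, 2, 2, 1, 2, 2, 2, 1, 3, 1, 3],
  [0, 0, 3, 3, 0, 2, 2, 1, 1, 2, 1, 2, 2, 1, 2, 2, 0, 3],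
  [0, 3, 1, 2, 2, 1, 1, 3, 0, 2, 0, 0, 0, 2, 1, 2],
  [3, 1, 3, 3, 3, 0, 2, 0, 2, 0, 3, 1, 2, 2, 1, 3, 3],
  [3, 1, 3, 3, 0, 2, 1, 2, 0, 2, 0, 3, 3, 0, 3, 0],
  [2, 0, 0, 0, 3, 0, 2, 0, 2, 2, 1, 2, 1, 1, 3, 3, 1, 2],
  [2, 1, 2, 1, 1, 3, 0, 0, 2, 2, 0, 0, 0, 3, 1, 2, 2, 1],
  [2, 2, 1, 3, 0, 0, 2, 2, 0, 2, 2, 0, 2, 0, 0, 2, 2, 0],
  [2, 1, 1, 1, 2, 2, 0, 2, 1, 2, 1, 3, 3, 0, 3, 0, 2, 1],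
  [1, 2, 2, 0, 2, 2, 1, 2, 0, 3, 0, 2, 2, 1, 2, 0, 3, 3, 3, 0],
  [0, 2, 2, 1, 1, 2, 0, 2, 0, 0, 0, 0, 3, 3, 0, 3, 0],
  [1, 1, 2, 1, 1, 3, 3, 3, 0, 3, 1, 1, 2, 0, 2, 0, 2, 1, 3],
  [0, 0, 3, 1, 2, 2, 1, 1, 3, 1, 3, 3, 3, 0, 3, 3, 0, 0],
  [3, 1, 3, 0, 0, 2, 0, 2, 1, 2, 1, 2, 0, 0, 0, 3, 0],
  [2, 0, 3, 1, 3, 1, 3, 1, 1, 2, 2, 1, 1, 1, 1, 2, 1, 2, 1],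
  [2, 1, 2, 2, 0, 0, 2, 0, 2, 2, 1, 2, 0, 0, 0, 2, 0, 0],
  [2, 1, 2, 1, 3, 3, 0, 3, 1, 2, 1, 2, 0, 0, 2, 1, 2, 2],
  [1, 3, 1, 2, 0, 3, 1, 3, 1, 1, 2, 2, 1, 1, 2, 1, 3, 3],
  [0, 0, 2, 0, 3, 3, 1, 3, 1, 2, 2, 0, 2, 0, 0, 3],
  [1, 2, 0, 3, 0, 3, 0, 2, 1, 1, 2, 0, 2, 0, 3, 0, 3, 1],
  [0, 2, 1, 2, 2, 1, 2, 2, 0, 3, 1, 2, 1, 1, 1, 2, 1, 1, 2],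
  [0, 3, 0, 0, 2, 0, 2, 0, 0, 2, 2, 2, 2, 1, 3, 1, 2, 2, 1, 2],
  [2, 0, 3, 0, 3, 0, 3, 0, 2, 0, 0, 2, 2, 1, 3, 1, 1, 1],
  [0, 0, 2, 1, 1, 3, 1, 3, 3, 3, 1, 1, 2, 1, 1, 2, 0, 0, 3],
  [3, 0, 2, 1, 1, 3, 1, 1, 3, 0, 2, 0, 0, 0, 3, 1, 1, 1, 2, 1],
  [3, 0, 3, 0, 2, 1, 3, 0, 0, 3, 0, 0, 2, 0, 2, 2, 0, 3],
  [1, 1, 1, 2, 2, 1, 2, 1, 2, 2, 2, 1, 2, 1, 2, 0, 0, 0],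
  [2, 1, 1, 2, 2, 0, 0, 2, 2, 0, 3, 3, 1, 2, 0, 2, 1],
  [2, 0, 0, 2, 0, 2, 1, 2, 2, 0, 3, 0, 2, 1, 2, 2, 1, 1, 1],
  [3, 0, 3, 3, 0, 3, 0, 2, 2, 1, 1, 3, 1, 1, 1, 3, 0, 3, 3],
  [0, 3, 3, 3, 1, 3, 1, 2, 0, 2, 2, 1, 2, 1, 1, 2, 1, 3, 3],
  [1, 2, 2, 2, 2, 0, 0, 0, 2, 2, 0, 3, 0, 3, 0, 0],
  [0, 3, 3, 0, 3, 0, 3, 3, 0, 2, 2, 1, 2, 1, 3, 0, 2, 1],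
  [0, 2, 1, 1, 1, 1, 1, 3, 1, 3, 0, 2, 2, 0, 0, 3, 1, 3, 0],
  [0, 0, 0, 2, 0, 2, 0, 2, 0, 3, 1, 2, 0, 0, 3, 0, 3, 1, 1],
  [1, 1, 2, 2, 1, 1, 1, 3, 0, 3, 0, 2, 2, 2, 1, 1, 1],
  [0, 0, 0, 2, 2, 2, 0, 3, 3, 3, 1, 2, 2, 1, 3, 1, 3],
  [3, 1, 2, 0, 2, 0, 2, 1, 2, 2, 1, 3, 3, 1, 1, 1, 3],
  [2, 2, 0, 3, 3, 0, 0, 2, 1, 1, 1, 3, 0, 0, 0, 3, 3],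
  [0, 2, 0, 0, 3, 0, 2, 0, 0, 0, 0, 2, 2, 0, 2, 1, 3, 0],
  [0, 3, 1, 3, 1, 2, 2, 0, 0, 0, 3, 1, 2, 2, 1, 1, 3],
  [3, 1, 1, 1, 1, 1, 2, 2, 1, 2, 0, 0, 0, 3, 3, 3, 0, 0, 2],
  [2, 2, 0, 0, 3, 3, 0, 0, 3, 0, 2, 2, 2, 1, 3, 3, 3, 1],
  [1, 2, 0, 2, 0, 3, 3, 1, 2, 1, 3, 1, 2, 0, 0, 0, 2, 0, 2],
  [2, 1, 1, 2, 0, 0, 3, 3, 3, 0, 0, 0, 2, 1, 3, 3, 3, 1],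
  [3, 1, 3, 1, 2, 1, 1, 1, 2, 2, 0, 0, 0, 3, 0, 2, 0, 3, 3],
  [1, 2, 1, 2, 0, 3, 3, 3, 1, 2, 0, 3, 1, 3, 0, 3],
  [0, 0, 3, 3, 1, 3, 3, 0, 2, 1, 2, 1, 2, 1, 1, 1, 3, 3],
  [1, 2, 1, 1, 3, 1, 2, 1, 3, 3, 3, 3, 0, 0, 3, 3, 1, 3, 0],
  [3, 1, 3, 0, 3, 0, 3, 3, 0, 0, 0, 0, 2, 1, 2, 2, 0, 3],
  [3, 1, 2, 1, 1, 1, 3, 1, 1, 2, 1, 3, 0, 3, 3, 1, 3, 1, 3],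
  [1, 1, 2, 0, 0, 0, 2, 1, 3, 1, 2, 2, 2, 0, 0],
  [1, 2, 1, 2, 1, 2, 0, 3, 3, 0, 2, 0, 3, 1, 2, 1, 2, 2],
  [2, 1, 2, 0, 0, 2, 0, 0, 2, 0, 3, 3, 1, 1, 1, 1, 2],
  [2, 1, 1, 2, 1, 2, 1, 3, 0, 0, 3, 3, 3, 1, 2, 1, 1, 3],
  [2, 2, 1, 1, 1, 2, 0, 0, 0, 3, 1, 1, 2, 2, 1, 3, 3]]

/-- the permutations of the 8 objects induced by the words of level 2 -/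
def PC2 : List (List ℕ) := [
  [0, 1, 2, 3, 4, 5, 6, 7],
  [7, 3, 0, 1, 6, 5, 4, 2],
  [0, 6, 7, 1, 3, 5, 4, 2],
  [7, 1, 2, 6, 3, 0, 4, 5],
  [6, 2, 3, 5, 7, 4, 0, 1],
  [6, 0, 4, 2, 7, 1, 5, 3],
  [3, 0, 1, 2, 5, 6, 7, 4],
  [7, 4, 5, 6, 1, 2, 3, 0],
  [7, 3, 0, 1, 6, 5, 4, 2],
  [0, 6, 2, 4, 1, 7, 3, 5],
  [7, 1, 5, 3, 6, 0, 4, 2],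
  [6, 7, 1, 5, 0, 3, 2, 4],
  [3, 0, 4, 2, 7, 6, 5, 1],
  [3, 7, 4, 2, 5, 6, 0, 1],
  [3, 5, 6, 2, 0, 1, 7, 4],
  [4, 2, 6, 0, 7, 1, 5, 3],
  [6, 5, 4, 7, 0, 3, 2, 1],
  [3, 7, 1, 5, 0, 4, 2, 6],
  [2, 3, 0, 1, 4, 5, 6, 7],
  [5, 1, 2, 4, 6, 7, 3, 0],
  [0, 3, 2, 1, 4, 7, 6, 5],
  [1, 2, 3, 5, 0, 4, 7, 6],
  [6, 2, 1, 0, 7, 4, 5, 3],
  [5, 1, 7, 4, 3, 2, 6, 0],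
  [5, 3, 0, 6, 1, 7, 4, 2],
  [6, 5, 1, 7, 2, 3, 0, 4],
  [6, 5, 1, 7, 2, 3, 0, 4],
  [1, 2, 3, 0, 7, 4, 5, 6],
  [3, 5, 4, 7, 2, 6, 0, 1],
  [3, 7, 4, 5, 2, 1, 0, 6],
  [0, 3, 7, 4, 1, 2, 6, 5],
  [6, 0, 3, 7, 2, 1, 5, 4],
  [3, 2, 1, 5, 7, 4, 0, 6],
  [0, 6, 2, 1, 4, 5, 3, 7],
  [3, 7, 1, 0, 5, 6, 2, 4],
  [3, 7, 4, 5, 2, 1, 0, 6],
  [6, 2, 3, 5, 7, 4, 0, 1],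
  [7, 4, 5, 3, 6, 2, 1, 0],
  [7, 4, 5, 6, 1, 2, 3, 0],
  [5, 6, 7, 4, 3, 0, 1, 2],
  [4, 5, 1, 2, 0, 6, 7, 3],
  [2, 1, 5, 4, 3, 7, 6, 0],
  [0, 6, 7, 3, 1, 2, 4, 5],
  [1, 7, 4, 0, 2, 3, 5, 6],
  [5, 4, 0, 1, 3, 2, 6, 7],
  [3, 2, 6, 5, 0, 4, 7, 1],
  [6, 5, 1, 2, 7, 4, 0, 3],
  [4, 2, 1, 7, 0, 6, 5, 3],
  [6, 0, 4, 2, 7, 1, 5, 3],
  [0, 4, 7, 3, 1, 5, 6, 2],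
  [2, 3, 5, 6, 4, 0, 1, 7],
  [3, 2, 6, 0, 5, 1, 7, 4],
  [7, 4, 2, 1, 6, 5, 3, 0],
  [0, 6, 5, 3, 1, 7, 4, 2],
  [2, 1, 0, 3, 4, 7, 6, 5],
  [3, 2, 6, 7, 5, 4, 0, 1],
  [4, 0, 1, 7, 5, 6, 2, 3],
  [5, 6, 0, 4, 3, 2, 1, 7],
  [3, 2, 1, 5, 7, 4, 0, 6],
  [5, 3, 7, 1, 6, 0, 4, 2],
  [0, 6, 5, 3, 1, 7, 4, 2],
  [7, 4, 5, 3, 6, 2, 1, 0],
  [0, 6, 2, 4, 1, 7, 3, 5],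
  [1, 7, 4, 2, 0, 6, 5, 3],
  [7, 1, 5, 3, 6, 0, 4, 2],
  [5, 3, 2, 4, 6, 0, 1, 7],
  [4, 7, 3, 2, 5, 1, 0, 6],
  [4, 0, 6, 5, 2, 3, 7, 1],
  [4, 7, 6, 5, 2, 1, 0, 3],
  [1, 5, 4, 0, 7, 3, 2, 6],
  [1, 0, 3, 2, 5, 4, 7, 6],
  [0, 1, 7, 4, 6, 2, 3, 5],
  [1, 2, 3, 0, 7, 4, 5, 6],
  [1, 0, 3, 2, 5, 4, 7, 6],
  [6, 5, 4, 7, 0, 3, 2, 1],
  [4, 5, 1, 0, 2, 3, 7, 6],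
  [2, 1, 5, 4, 6, 0, 3, 7],
  [0, 4, 7, 3, 1, 5, 6, 2],
  [1, 7, 3, 5, 0, 6, 2, 4],
  [2, 4, 5, 1, 3, 0, 6, 7],
  [6, 5, 4, 7, 2, 1, 0, 3],
  [3, 5, 4, 7, 0, 1, 2, 6],
  [3, 7, 1, 5, 0, 4, 2, 6],
  [4, 0, 6, 2, 7, 3, 5, 1],
  [0, 1, 2, 3, 4, 5, 6, 7],
  [3, 7, 4, 2, 5, 6, 0, 1],
  [3, 7, 1, 0, 5, 6, 2, 4],
  [3, 0, 6, 7, 5, 1, 2, 4],
  [4, 7, 1, 0, 2, 6, 5, 3],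
  [5, 3, 2, 6, 1, 0, 4, 7],
  [0, 6, 7, 3, 1, 2, 4, 5],
  [1, 5, 4, 2, 0, 3, 7, 6],
  [5, 1, 7, 3, 6, 2, 4, 0],
  [1, 5, 3, 7, 2, 6, 0, 4],
  [5, 4, 0, 6, 3, 7, 1, 2],
  [2, 6, 5, 4, 1, 7, 3, 0],
  [4, 7, 6, 5, 2, 1, 0, 3],
  [3, 2, 1, 0, 5, 4, 7, 6],
  [2, 6, 0, 4, 1, 5, 3, 7],
  [2, 3, 7, 1, 4, 0, 6, 5],
  [3, 0, 4, 5, 7, 1, 2, 6],
  [0, 1, 2, 6, 3, 5, 4, 7],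
  [3, 5, 4, 7, 0, 1, 2, 6],
  [3, 5, 6, 2, 0, 1, 7, 4],
  [0, 4, 2, 6, 3, 7, 1, 5],
  [0, 1, 2, 6, 3, 5, 4, 7],
  [6, 7, 3, 0, 2, 4, 5, 1],
  [3, 2, 6, 0, 5, 1, 7, 4],
  [2, 3, 7, 4, 1, 5, 6, 0],
  [2, 3, 0, 4, 6, 5, 1, 7],
  [6, 2, 1, 0, 7, 4, 5, 3],
  [3, 2, 6, 7, 5, 4, 0, 1],
  [4, 5, 1, 0, 2, 3, 7, 6],
  [4, 7, 3, 5, 2, 6, 0, 1],
  [5, 6, 7, 4, 3, 0, 1, 2],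
  [3, 5, 4, 0, 7, 6, 2, 1],
  [0, 3, 2, 1, 6, 5, 4, 7],
  [5, 1, 7, 3, 6, 2, 4, 0],
  [2, 6, 0, 4, 1, 5, 3, 7],
  [2, 6, 5, 3, 4, 7, 1, 0],
  [2, 6, 5, 3, 4, 7, 1, 0],
  [4, 7, 1, 0, 2, 6, 5, 3],
  [7, 3, 2, 1, 6, 0, 4, 5],
  [5, 4, 7, 3, 6, 0, 1, 2],
  [2, 6, 0, 1, 4, 7, 3, 5],
  [0, 6, 7, 1, 3, 5, 4, 2],
  [1, 7, 3, 5, 0, 6, 2, 4],
  [2, 3, 5, 6, 4, 0, 1, 7],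
  [2, 4, 7, 6, 1, 5, 3, 0],
  [0, 3, 2, 6, 1, 7, 4, 5],
  [1, 2, 3, 5, 0, 4, 7, 6],
  [5, 4, 0, 1, 3, 2, 6, 7],
  [2, 3, 0, 4, 6, 5, 1, 7],
  [2, 1, 0, 3, 4, 7, 6, 5],
  [4, 5, 1, 7, 2, 6, 0, 3],
  [4, 0, 6, 5, 2, 3, 7, 1],
  [5, 4, 0, 6, 3, 7, 1, 2],
  [2, 3, 7, 1, 4, 0, 6, 5],
  [2, 1, 5, 4, 6, 0, 3, 7],
  [2, 6, 0, 1, 4, 7, 3, 5],
  [5, 1, 0, 3, 4, 2, 6, 7],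
  [4, 5, 1, 7, 2, 6, 0, 3],
  [4, 7, 3, 5, 2, 6, 0, 1],
  [4, 0, 6, 2, 7, 3, 5, 1]]

/-- the words of level 3 of the chain in the centraliser -/
def LC3 : List (List ℕ) := [
  [],
  [0, 0, 3, 1, 1, 3, 1, 3, 1, 1, 2, 2, 2, 1, 1, 2, 2, 1],
  [3, 3, 1, 1, 2, 0, 3, 3, 1, 3, 3, 3, 3, 1, 3, 0, 2, 0],
  [1, 3, 1, 2, 0, 3, 3, 3, 0, 2, 2, 0, 2, 0, 3, 1, 2, 1, 3],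
  [1, 1, 1, 2, 1, 3, 3, 0, 0, 2, 2, 2, 0, 2, 0, 0, 2, 2, 2, 0],
  [1, 3, 1, 2, 0, 2, 2, 2, 2, 0, 2, 2, 1, 3, 0, 0, 2, 2],
  [3, 0, 0, 0, 0, 3, 3, 0, 2, 1, 3, 3, 3, 0, 0, 0, 3, 1, 1, 1],
  [0, 3, 1, 1, 2, 2, 2, 1, 2, 1, 2, 1, 2, 1, 1, 3, 0, 0, 2]]

/-- the permutations of the 8 objects induced by the words of level 3 -/
def PC3 : List (List ℕ) := [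
  [0, 1, 2, 3, 4, 5, 6, 7],
  [6, 7, 3, 2, 5, 4, 0, 1],
  [5, 3, 7, 4, 6, 2, 1, 0],
  [4, 2, 1, 5, 0, 3, 7, 6],
  [1, 0, 4, 7, 2, 6, 5, 3],
  [7, 6, 5, 1, 3, 0, 4, 2],
  [3, 5, 6, 0, 7, 1, 2, 4],
  [2, 4, 0, 6, 1, 7, 3, 5]]

/-- a word whose square is the involution -/
def xW : List ℕ := [0, 3, 0, 2, 1, 3, 1, 2, 2, 1, 3, 0, 3, 0, 3, 0, 3]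

end Cfsg.Agent.Lib.Helper4.McL
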