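import Cfsg.Agent.Lib.Helper4.McL.OChkS
import Cfsg.Agent.Lib.Helper4.McL.AData

set_option autoImplicit false

/-!
# Checks for the centraliser of an involution of the McLaughlin group on 275 points

The centraliser of `t = B⁵` permutes 28 sets of 15 fixed points of `t` as the alternating group of degree 8
permutes the pairs of 8 objects.
-/

namespace Cfsg.Agent.Lib.Helper4.McL

open Cfsg.Agent.Lib.Helper10.SX

noncomputable section

/-- the fixed point with a given index -/
def fx (a : ℕ) : ℕ := FXl.getD a 0

/-- the mask of a pair of objects -/
def dm (i j : ℕ) : ℕ := (dmL.getD i []).getD j 0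

/-- the index of a point in the list of the fixed points (35 when it is not there) -/
def fxIdx (p : ℕ) : ℕ := FXl.idxOf p

/-- evaluate the number, then apply the function -/
def forceB (y : ℕ) (f : ℕ → Bool) : Bool :=
  Nat.rec (motive := fun _ => Bool) (f 0) (fun k _ => f (Nat.succ k)) y

theorem forceB_eq (y : ℕ) (f : ℕ → Bool) : forceB y f = f y := by
  cases y <;> rfl

/-- the entry of a permutation given by a list -/
def pil (l : List ℕ) (i : ℕ) : ℕ := l.getD i 0

/-- the list is a permutation of the 8 objects -/
def validPi (l : List ℕ) : Bool := l.length == 8 && l.all (fun x => Nat.blt x 8) && decide l.Nodup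

/-- the word permutes the fixed points and maps the sets of the pairs as the list says -/
def compatW (w l : List ℕ) : Bool :=
  allLt 35 fun a => forceB (fxIdx (evW w (fx a))) fun b =>
    Nat.blt b 35 && Nat.beq (fx b) (evW w (fx a)) &&
      allLt 8 fun i => allLt 8 fun j => Nat.beq i j ||
        (Nat.testBit (dm i j) a == Nat.testBit (dm (pil l i) (pil l j)) b)

/-- the check for two lists side by side -/
def compatL : List (List ℕ) → List (List ℕ) → Bool
  | [], [] => true
  | w :: ws, l :: ls => compatW w l && validPi l && compatL ws ls
  | _, _ => false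

theorem lvC_eq : lvC = [(1, LC1), (0, LC2), (2, LC3)] := by
  decide +kernel

set_option maxRecDepth 1000000 in
theorem compat1 : compatL LC1 PC1 = true := by
  decide +kernel

set_option maxRecDepth 1000000 in
theorem compat2 : compatL LC2 PC2 = true := by
  decide +kernel

set_option maxRecDepth 1000000 in
theorem compat3 : compatL LC3 PC3 = true := by
  decide +kernel

/-- composition of permutations given by lists -/
def compL (p q : List ℕ) : List ℕ := q.map (pil p)

/-- the list is the identity of the 8 objects -/
def isIdL (p : List ℕ) : Bool := p == [0, 1, 2, 3, 4, 5, 6, 7]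

/-- the products of three words of the chain inducing the identity on the 8 objects are `1` and `t` -/
def kerB : Bool :=
  (List.zip LC1 PC1).all fun a => (List.zip LC2 PC2).all fun b => (List.zip LC3 PC3).all fun c =>
    !(isIdL (compL a.2 (compL b.2 c.2))) || sigEq (a.1 ++ (b.1 ++ c.1)) [] ||
      sigEq (a.1 ++ (b.1 ++ c.1)) tw

set_option maxRecDepth 1000000 in
theorem kerC : kerB = true := by
  decide +kernel

/-- the involution fixes the 35 points -/
theorem fxT : (allLt 35 fun a => Nat.beq (evW tw (fx a)) (fx a)) = true := by
  decide +kernel

theorem sqX : sigEq (xW ++ xW) tw = true := by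
  decide +kernel

/-- different pairs have different sets -/
def dmInjB : Bool :=
  allLt 8 fun i => allLt 8 fun j => allLt 8 fun k => allLt 8 fun l =>
    Nat.beq i j || Nat.beq k l ||
      !(allLt 35 fun a => Nat.testBit (dm i j) a == Nat.testBit (dm k l) a) ||
      (Nat.beq i k && Nat.beq j l) || (Nat.beq i l && Nat.beq j k)

theorem dmInj : dmInjB = true := by
  decide +kernel

theorem FXl_nodup : FXl.Nodup := by
  decide +kernel

theorem FXl_length : FXl.length = 35 := by
  decide +kernel

theorem FXl_lt : ∀ p ∈ FXl, p < 275 := by
  decide +kernel

end

end Cfsg.Agent.Lib.Helper4.McL
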