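import Cfsg.Agent.Lib.Helper4.McL.OBasic
import Cfsg.Agent.Lib.Helper4.McL.OData
import Cfsg.Agent.Lib.Helper4.McL.OCls0

set_option autoImplicit false

/-!
# Checks on the involutions of the McLaughlin group on 275 points, part 0 (generated)

The codes of the conjugates of the involution; the relations fail for all the involutions but 22 with the
generator of order 11, and for all the involutions with its inverse.
-/

namespace Cfsg.Agent.Lib.Helper4.McL

open Cfsg.Agent.Lib.Helper10.SX

noncomputable section

set_option maxRecDepth 1000000 in
theorem cd0 : eqL (LW0.map codeInv) CD0 = true := by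
  decide +kernel

set_option maxRecDepth 1000000 in
theorem ra0 : (LW0.all fun w => relFailAY (conjW w) [0] || EXC.contains (codeInv w)) = true := by
  decide +kernel

set_option maxRecDepth 1000000 in
theorem rb0 : (LW0.all fun w => relFailAY (conjW w) [1]) = true := by
  decide +kernel

set_option maxRecDepth 1000000 in
theorem cd1 : eqL (LW1.map codeInv) CD1 = true := by
  decide +kernel

set_option maxRecDepth 1000000 in
theorem ra1 : (LW1.all fun w => relFailAY (conjW w) [0] || EXC.contains (codeInv w)) = true := by
  decide +kernel

set_option maxRecDepth 1000000 in
theorem rb1 : (LW1.all fun w => relFailAY (conjW w) [1]) = true := by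
  decide +kernel

set_option maxRecDepth 1000000 in
theorem cd2 : eqL (LW2.map codeInv) CD2 = true := by
  decide +kernel

set_option maxRecDepth 1000000 in
theorem ra2 : (LW2.all fun w => relFailAY (conjW w) [0] || EXC.contains (codeInv w)) = true := by
  decide +kernel

set_option maxRecDepth 1000000 in
theorem rb2 : (LW2.all fun w => relFailAY (conjW w) [1]) = true := by
  decide +kernel

set_option maxRecDepth 1000000 in
theorem cd3 : eqL (LW3.map codeInv) CD3 = true := by
  decide +kernel

set_option maxRecDepth 1000000 in
theorem ra3 : (LW3.all fun w => relFailAY (conjW w) [0] || EXC.contains (codeInv w)) = true := by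
  decide +kernel

set_option maxRecDepth 1000000 in
theorem rb3 : (LW3.all fun w => relFailAY (conjW w) [1]) = true := by
  decide +kernel

set_option maxRecDepth 1000000 in
theorem cd4 : eqL (LW4.map codeInv) CD4 = true := by
  decide +kernel

set_option maxRecDepth 1000000 in
theorem ra4 : (LW4.all fun w => relFailAY (conjW w) [0] || EXC.contains (codeInv w)) = true := by
  decide +kernel

set_option maxRecDepth 1000000 in
theorem rb4 : (LW4.all fun w => relFailAY (conjW w) [1]) = true := by
  decide +kernel

set_option maxRecDepth 1000000 in
theorem cd5 : eqL (LW5.map codeInv) CD5 = true := by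
  decide +kernel

set_option maxRecDepth 1000000 in
theorem ra5 : (LW5.all fun w => relFailAY (conjW w) [0] || EXC.contains (codeInv w)) = true := by
  decide +kernel

set_option maxRecDepth 1000000 in
theorem rb5 : (LW5.all fun w => relFailAY (conjW w) [1]) = true := by
  decide +kernel

end

end Cfsg.Agent.Lib.Helper4.McL
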