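import Cfsg.Agent.Lib.Helper4.McL.OBasic
import Cfsg.Agent.Lib.Helper4.McL.OData
import Cfsg.Agent.Lib.Helper4.McL.OCls1

set_option autoImplicit false

/-!
# Checks on the involutions of the McLaughlin group on 275 points, part 1 (generated)

The codes of the conjugates of the involution; the relations fail for all the involutions but 22 with the
generator of order 11, and for all the involutions with its inverse.
-/

namespace Cfsg.Agent.Lib.Helper4.McL

open Cfsg.Agent.Lib.Helper10.SX

noncomputable section

set_option maxRecDepth 1000000 in
theorem cd6 : eqL (LW6.map codeInv) CD6 = true := by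
  decide +kernel

set_option maxRecDepth 1000000 in
theorem ra6 : (LW6.all fun w => relFailAY (conjW w) [0] || EXC.contains (codeInv w)) = true := by
  decide +kernel

set_option maxRecDepth 1000000 in
theorem rb6 : (LW6.all fun w => relFailAY (conjW w) [1]) = true := by
  decide +kernel

set_option maxRecDepth 1000000 in
theorem cd7 : eqL (LW7.map codeInv) CD7 = true := by
  decide +kernel

set_option maxRecDepth 1000000 in
theorem ra7 : (LW7.all fun w => relFailAY (conjW w) [0] || EXC.contains (codeInv w)) = true := by
  decide +kernel

set_option maxRecDepth 1000000 in
theorem rb7 : (LW7.all fun w => relFailAY (conjW w) [1]) = true := by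
  decide +kernel

set_option maxRecDepth 1000000 in
theorem cd8 : eqL (LW8.map codeInv) CD8 = true := by
  decide +kernel

set_option maxRecDepth 1000000 in
theorem ra8 : (LW8.all fun w => relFailAY (conjW w) [0] || EXC.contains (codeInv w)) = true := by
  decide +kernel

set_option maxRecDepth 1000000 in
theorem rb8 : (LW8.all fun w => relFailAY (conjW w) [1]) = true := by
  decide +kernel

set_option maxRecDepth 1000000 in
theorem cd9 : eqL (LW9.map codeInv) CD9 = true := by
  decide +kernel

set_option maxRecDepth 1000000 in
theorem ra9 : (LW9.all fun w => relFailAY (conjW w) [0] || EXC.contains (codeInv w)) = true := by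
  decide +kernel

set_option maxRecDepth 1000000 in
theorem rb9 : (LW9.all fun w => relFailAY (conjW w) [1]) = true := by
  decide +kernel

set_option maxRecDepth 1000000 in
theorem cd10 : eqL (LW10.map codeInv) CD10 = true := by
  decide +kernel

set_option maxRecDepth 1000000 in
theorem ra10 : (LW10.all fun w => relFailAY (conjW w) [0] || EXC.contains (codeInv w)) = true := by
  decide +kernel

set_option maxRecDepth 1000000 in
theorem rb10 : (LW10.all fun w => relFailAY (conjW w) [1]) = true := by
  decide +kernel

set_option maxRecDepth 1000000 in
theorem cd11 : eqL (LW11.map codeInv) CD11 = true := by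
  decide +kernel

set_option maxRecDepth 1000000 in
theorem ra11 : (LW11.all fun w => relFailAY (conjW w) [0] || EXC.contains (codeInv w)) = true := by
  decide +kernel

set_option maxRecDepth 1000000 in
theorem rb11 : (LW11.all fun w => relFailAY (conjW w) [1]) = true := by
  decide +kernel

end

end Cfsg.Agent.Lib.Helper4.McL
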