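import Cfsg.Agent.Lib.Helper4.McL.OChkCls0 -- chain
import Cfsg.Agent.Lib.Helper4.McL.OBasic
import Cfsg.Agent.Lib.Helper4.McL.OData
import Cfsg.Agent.Lib.Helper4.McL.OCls2

set_option autoImplicit false

/-!
# Checks on the involutions of the McLaughlin group on 275 points, part 2 (generated)

The codes of the conjugates of the involution; the relations fail for all the involutions but 22 with the
generator of order 11, and for all the involutions with its inverse.
-/

namespace Cfsg.Agent.Lib.Helper4.McL

open Cfsg.Agent.Lib.Helper10.SX

noncomputable section

set_option maxRecDepth 1000000 in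
theorem cd12 : eqL (LW12.map codeInv) CD12 = true := by
  decide +kernel

set_option maxRecDepth 1000000 in
theorem ra12 : (LW12.all fun w => relFailAY (conjW w) [0] || EXC.contains (codeInv w)) = true := by
  decide +kernel

set_option maxRecDepth 1000000 in
theorem rb12 : (LW12.all fun w => relFailAY (conjW w) [1]) = true := by
  decide +kernel

set_option maxRecDepth 1000000 in
theorem cd13 : eqL (LW13.map codeInv) CD13 = true := by
  decide +kernel

set_option maxRecDepth 1000000 in
theorem ra13 : (LW13.all fun w => relFailAY (conjW w) [0] || EXC.contains (codeInv w)) = true := by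
  decide +kernel

set_option maxRecDepth 1000000 in
theorem rb13 : (LW13.all fun w => relFailAY (conjW w) [1]) = true := by
  decide +kernel

set_option maxRecDepth 1000000 in
theorem cd14 : eqL (LW14.map codeInv) CD14 = true := by
  decide +kernel

set_option maxRecDepth 1000000 in
theorem ra14 : (LW14.all fun w => relFailAY (conjW w) [0] || EXC.contains (codeInv w)) = true := by
  decide +kernel

set_option maxRecDepth 1000000 in
theorem rb14 : (LW14.all fun w => relFailAY (conjW w) [1]) = true := by
  decide +kernel

set_option maxRecDepth 1000000 in
theorem cd15 : eqL (LW15.map codeInv) CD15 = true := by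
  decide +kernel

set_option maxRecDepth 1000000 in
theorem ra15 : (LW15.all fun w => relFailAY (conjW w) [0] || EXC.contains (codeInv w)) = true := by
  decide +kernel

set_option maxRecDepth 1000000 in
theorem rb15 : (LW15.all fun w => relFailAY (conjW w) [1]) = true := by
  decide +kernel

set_option maxRecDepth 1000000 in
theorem cd16 : eqL (LW16.map codeInv) CD16 = true := by
  decide +kernel

set_option maxRecDepth 1000000 in
theorem ra16 : (LW16.all fun w => relFailAY (conjW w) [0] || EXC.contains (codeInv w)) = true := by
  decide +kernel

set_option maxRecDepth 1000000 in
theorem rb16 : (LW16.all fun w => relFailAY (conjW w) [1]) = true := by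
  decide +kernel

set_option maxRecDepth 1000000 in
theorem cd17 : eqL (LW17.map codeInv) CD17 = true := by
  decide +kernel

set_option maxRecDepth 1000000 in
theorem ra17 : (LW17.all fun w => relFailAY (conjW w) [0] || EXC.contains (codeInv w)) = true := by
  decide +kernel

set_option maxRecDepth 1000000 in
theorem rb17 : (LW17.all fun w => relFailAY (conjW w) [1]) = true := by
  decide +kernel

end

end Cfsg.Agent.Lib.Helper4.McL
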