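import Cfsg.Agent.Lib.Helper4.McL.OChkCls1 -- chain
import Cfsg.Agent.Lib.Helper4.McL.OBasic
import Cfsg.Agent.Lib.Helper4.McL.OData
import Cfsg.Agent.Lib.Helper4.McL.OCls3

set_option autoImplicit false

/-!
# Checks on the involutions of the McLaughlin group on 275 points, part 3 (generated)

The codes of the conjugates of the involution; the relations fail for all the involutions but 22 with the
generator of order 11, and for all the involutions with its inverse.
-/

namespace Cfsg.Agent.Lib.Helper4.McL

open Cfsg.Agent.Lib.Helper10.SX

noncomputable section

set_option maxRecDepth 1000000 in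
theorem cd18 : eqL (LW18.map codeInv) CD18 = true := by
  decide +kernel

set_option maxRecDepth 1000000 in
theorem ra18 : (LW18.all fun w => relFailAY (conjW w) [0] || EXC.contains (codeInv w)) = true := by
  decide +kernel

set_option maxRecDepth 1000000 in
theorem rb18 : (LW18.all fun w => relFailAY (conjW w) [1]) = true := by
  decide +kernel

set_option maxRecDepth 1000000 in
theorem cd19 : eqL (LW19.map codeInv) CD19 = true := by
  decide +kernel

set_option maxRecDepth 1000000 in
theorem ra19 : (LW19.all fun w => relFailAY (conjW w) [0] || EXC.contains (codeInv w)) = true := by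
  decide +kernel

set_option maxRecDepth 1000000 in
theorem rb19 : (LW19.all fun w => relFailAY (conjW w) [1]) = true := by
  decide +kernel

set_option maxRecDepth 1000000 in
theorem cd20 : eqL (LW20.map codeInv) CD20 = true := by
  decide +kernel

set_option maxRecDepth 1000000 in
theorem ra20 : (LW20.all fun w => relFailAY (conjW w) [0] || EXC.contains (codeInv w)) = true := by
  decide +kernel

set_option maxRecDepth 1000000 in
theorem rb20 : (LW20.all fun w => relFailAY (conjW w) [1]) = true := by
  decide +kernel

set_option maxRecDepth 1000000 in
theorem cd21 : eqL (LW21.map codeInv) CD21 = true := by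
  decide +kernel

set_option maxRecDepth 1000000 in
theorem ra21 : (LW21.all fun w => relFailAY (conjW w) [0] || EXC.contains (codeInv w)) = true := by
  decide +kernel

set_option maxRecDepth 1000000 in
theorem rb21 : (LW21.all fun w => relFailAY (conjW w) [1]) = true := by
  decide +kernel

set_option maxRecDepth 1000000 in
theorem cd22 : eqL (LW22.map codeInv) CD22 = true := by
  decide +kernel

set_option maxRecDepth 1000000 in
theorem ra22 : (LW22.all fun w => relFailAY (conjW w) [0] || EXC.contains (codeInv w)) = true := by
  decide +kernel

set_option maxRecDepth 1000000 in
theorem rb22 : (LW22.all fun w => relFailAY (conjW w) [1]) = true := by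
  decide +kernel

set_option maxRecDepth 1000000 in
theorem cd23 : eqL (LW23.map codeInv) CD23 = true := by
  decide +kernel

set_option maxRecDepth 1000000 in
theorem ra23 : (LW23.all fun w => relFailAY (conjW w) [0] || EXC.contains (codeInv w)) = true := by
  decide +kernel

set_option maxRecDepth 1000000 in
theorem rb23 : (LW23.all fun w => relFailAY (conjW w) [1]) = true := by
  decide +kernel

end

end Cfsg.Agent.Lib.Helper4.McL
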