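import Cfsg.Agent.Lib.Helper4.McL.OChkCls2 -- chain
import Cfsg.Agent.Lib.Helper4.McL.OBasic
import Cfsg.Agent.Lib.Helper4.McL.OData
import Cfsg.Agent.Lib.Helper4.McL.OCls4

set_option autoImplicit false

/-!
# Checks on the involutions of the McLaughlin group on 275 points, part 4 (generated)

The codes of the conjugates of the involution; the relations fail for all the involutions but 22 with the
generator of order 11, and for all the involutions with its inverse.
-/

namespace Cfsg.Agent.Lib.Helper4.McL

open Cfsg.Agent.Lib.Helper10.SX

noncomputable section

set_option maxRecDepth 1000000 in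
theorem cd24 : eqL (LW24.map codeInv) CD24 = true := by
  decide +kernel

set_option maxRecDepth 1000000 in
theorem ra24 : (LW24.all fun w => relFailAY (conjW w) [0] || EXC.contains (codeInv w)) = true := by
  decide +kernel

set_option maxRecDepth 1000000 in
theorem rb24 : (LW24.all fun w => relFailAY (conjW w) [1]) = true := by
  decide +kernel

set_option maxRecDepth 1000000 in
theorem cd25 : eqL (LW25.map codeInv) CD25 = true := by
  decide +kernel

set_option maxRecDepth 1000000 in
theorem ra25 : (LW25.all fun w => relFailAY (conjW w) [0] || EXC.contains (codeInv w)) = true := by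
  decide +kernel

set_option maxRecDepth 1000000 in
theorem rb25 : (LW25.all fun w => relFailAY (conjW w) [1]) = true := by
  decide +kernel

set_option maxRecDepth 1000000 in
theorem cd26 : eqL (LW26.map codeInv) CD26 = true := by
  decide +kernel

set_option maxRecDepth 1000000 in
theorem ra26 : (LW26.all fun w => relFailAY (conjW w) [0] || EXC.contains (codeInv w)) = true := by
  decide +kernel

set_option maxRecDepth 1000000 in
theorem rb26 : (LW26.all fun w => relFailAY (conjW w) [1]) = true := by
  decide +kernel

set_option maxRecDepth 1000000 in
theorem cd27 : eqL (LW27.map codeInv) CD27 = true := by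
  decide +kernel

set_option maxRecDepth 1000000 in
theorem ra27 : (LW27.all fun w => relFailAY (conjW w) [0] || EXC.contains (codeInv w)) = true := by
  decide +kernel

set_option maxRecDepth 1000000 in
theorem rb27 : (LW27.all fun w => relFailAY (conjW w) [1]) = true := by
  decide +kernel

set_option maxRecDepth 1000000 in
theorem cd28 : eqL (LW28.map codeInv) CD28 = true := by
  decide +kernel

set_option maxRecDepth 1000000 in
theorem ra28 : (LW28.all fun w => relFailAY (conjW w) [0] || EXC.contains (codeInv w)) = true := by
  decide +kernel

set_option maxRecDepth 1000000 in
theorem rb28 : (LW28.all fun w => relFailAY (conjW w) [1]) = true := by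
  decide +kernel

set_option maxRecDepth 1000000 in
theorem cd29 : eqL (LW29.map codeInv) CD29 = true := by
  decide +kernel

set_option maxRecDepth 1000000 in
theorem ra29 : (LW29.all fun w => relFailAY (conjW w) [0] || EXC.contains (codeInv w)) = true := by
  decide +kernel

set_option maxRecDepth 1000000 in
theorem rb29 : (LW29.all fun w => relFailAY (conjW w) [1]) = true := by
  decide +kernel

end

end Cfsg.Agent.Lib.Helper4.McL
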