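import Cfsg.Agent.Lib.Helper4.McL.OChkCls3 -- chain
import Cfsg.Agent.Lib.Helper4.McL.OBasic
import Cfsg.Agent.Lib.Helper4.McL.OData
import Cfsg.Agent.Lib.Helper4.McL.OCls5

set_option autoImplicit false

/-!
# Checks on the involutions of the McLaughlin group on 275 points, part 5 (generated)

The codes of the conjugates of the involution; the relations fail for all the involutions but 22 with the
generator of order 11, and for all the involutions with its inverse.
-/

namespace Cfsg.Agent.Lib.Helper4.McL

open Cfsg.Agent.Lib.Helper10.SX

noncomputable section

set_option maxRecDepth 1000000 in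
theorem cd30 : eqL (LW30.map codeInv) CD30 = true := by
  decide +kernel

set_option maxRecDepth 1000000 in
theorem ra30 : (LW30.all fun w => relFailAY (conjW w) [0] || EXC.contains (codeInv w)) = true := by
  decide +kernel

set_option maxRecDepth 1000000 in
theorem rb30 : (LW30.all fun w => relFailAY (conjW w) [1]) = true := by
  decide +kernel

set_option maxRecDepth 1000000 in
theorem cd31 : eqL (LW31.map codeInv) CD31 = true := by
  decide +kernel

set_option maxRecDepth 1000000 in
theorem ra31 : (LW31.all fun w => relFailAY (conjW w) [0] || EXC.contains (codeInv w)) = true := by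
  decide +kernel

set_option maxRecDepth 1000000 in
theorem rb31 : (LW31.all fun w => relFailAY (conjW w) [1]) = true := by
  decide +kernel

set_option maxRecDepth 1000000 in
theorem cd32 : eqL (LW32.map codeInv) CD32 = true := by
  decide +kernel

set_option maxRecDepth 1000000 in
theorem ra32 : (LW32.all fun w => relFailAY (conjW w) [0] || EXC.contains (codeInv w)) = true := by
  decide +kernel

set_option maxRecDepth 1000000 in
theorem rb32 : (LW32.all fun w => relFailAY (conjW w) [1]) = true := by
  decide +kernel

set_option maxRecDepth 1000000 in
theorem cd33 : eqL (LW33.map codeInv) CD33 = true := by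
  decide +kernel

set_option maxRecDepth 1000000 in
theorem ra33 : (LW33.all fun w => relFailAY (conjW w) [0] || EXC.contains (codeInv w)) = true := by
  decide +kernel

set_option maxRecDepth 1000000 in
theorem rb33 : (LW33.all fun w => relFailAY (conjW w) [1]) = true := by
  decide +kernel

set_option maxRecDepth 1000000 in
theorem cd34 : eqL (LW34.map codeInv) CD34 = true := by
  decide +kernel

set_option maxRecDepth 1000000 in
theorem ra34 : (LW34.all fun w => relFailAY (conjW w) [0] || EXC.contains (codeInv w)) = true := by
  decide +kernel

set_option maxRecDepth 1000000 in
theorem rb34 : (LW34.all fun w => relFailAY (conjW w) [1]) = true := by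
  decide +kernel

set_option maxRecDepth 1000000 in
theorem cd35 : eqL (LW35.map codeInv) CD35 = true := by
  decide +kernel

set_option maxRecDepth 1000000 in
theorem ra35 : (LW35.all fun w => relFailAY (conjW w) [0] || EXC.contains (codeInv w)) = true := by
  decide +kernel

set_option maxRecDepth 1000000 in
theorem rb35 : (LW35.all fun w => relFailAY (conjW w) [1]) = true := by
  decide +kernel

end

end Cfsg.Agent.Lib.Helper4.McL
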