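import Cfsg.Agent.Lib.Helper4.McL.OChkCls4 -- chain
import Cfsg.Agent.Lib.Helper4.McL.OBasic
import Cfsg.Agent.Lib.Helper4.McL.OData
import Cfsg.Agent.Lib.Helper4.McL.OCls6

set_option autoImplicit false

/-!
# Checks on the involutions of the McLaughlin group on 275 points, part 6 (generated)

The codes of the conjugates of the involution; the relations fail for all the involutions but 22 with the
generator of order 11, and for all the involutions with its inverse.
-/

namespace Cfsg.Agent.Lib.Helper4.McL

open Cfsg.Agent.Lib.Helper10.SX

noncomputable section

set_option maxRecDepth 1000000 in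
theorem cd36 : eqL (LW36.map codeInv) CD36 = true := by
  decide +kernel

set_option maxRecDepth 1000000 in
theorem ra36 : (LW36.all fun w => relFailAY (conjW w) [0] || EXC.contains (codeInv w)) = true := by
  decide +kernel

set_option maxRecDepth 1000000 in
theorem rb36 : (LW36.all fun w => relFailAY (conjW w) [1]) = true := by
  decide +kernel

set_option maxRecDepth 1000000 in
theorem cd37 : eqL (LW37.map codeInv) CD37 = true := by
  decide +kernel

set_option maxRecDepth 1000000 in
theorem ra37 : (LW37.all fun w => relFailAY (conjW w) [0] || EXC.contains (codeInv w)) = true := by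
  decide +kernel

set_option maxRecDepth 1000000 in
theorem rb37 : (LW37.all fun w => relFailAY (conjW w) [1]) = true := by
  decide +kernel

set_option maxRecDepth 1000000 in
theorem cd38 : eqL (LW38.map codeInv) CD38 = true := by
  decide +kernel

set_option maxRecDepth 1000000 in
theorem ra38 : (LW38.all fun w => relFailAY (conjW w) [0] || EXC.contains (codeInv w)) = true := by
  decide +kernel

set_option maxRecDepth 1000000 in
theorem rb38 : (LW38.all fun w => relFailAY (conjW w) [1]) = true := by
  decide +kernel

set_option maxRecDepth 1000000 in
theorem cd39 : eqL (LW39.map codeInv) CD39 = true := by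
  decide +kernel

set_option maxRecDepth 1000000 in
theorem ra39 : (LW39.all fun w => relFailAY (conjW w) [0] || EXC.contains (codeInv w)) = true := by
  decide +kernel

set_option maxRecDepth 1000000 in
theorem rb39 : (LW39.all fun w => relFailAY (conjW w) [1]) = true := by
  decide +kernel

set_option maxRecDepth 1000000 in
theorem cd40 : eqL (LW40.map codeInv) CD40 = true := by
  decide +kernel

set_option maxRecDepth 1000000 in
theorem ra40 : (LW40.all fun w => relFailAY (conjW w) [0] || EXC.contains (codeInv w)) = true := by
  decide +kernel

set_option maxRecDepth 1000000 in
theorem rb40 : (LW40.all fun w => relFailAY (conjW w) [1]) = true := by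
  decide +kernel

set_option maxRecDepth 1000000 in
theorem cd41 : eqL (LW41.map codeInv) CD41 = true := by
  decide +kernel

set_option maxRecDepth 1000000 in
theorem ra41 : (LW41.all fun w => relFailAY (conjW w) [0] || EXC.contains (codeInv w)) = true := by
  decide +kernel

set_option maxRecDepth 1000000 in
theorem rb41 : (LW41.all fun w => relFailAY (conjW w) [1]) = true := by
  decide +kernel

end

end Cfsg.Agent.Lib.Helper4.McL
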