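import Cfsg.Agent.Lib.Helper4.McL.OChkCls5 -- chain
import Cfsg.Agent.Lib.Helper4.McL.OBasic
import Cfsg.Agent.Lib.Helper4.McL.OData
import Cfsg.Agent.Lib.Helper4.McL.OCls7

set_option autoImplicit false

/-!
# Checks on the involutions of the McLaughlin group on 275 points, part 7 (generated)

The codes of the conjugates of the involution; the relations fail for all the involutions but 22 with the
generator of order 11, and for all the involutions with its inverse.
-/

namespace Cfsg.Agent.Lib.Helper4.McL

open Cfsg.Agent.Lib.Helper10.SX

noncomputable section

set_option maxRecDepth 1000000 in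
theorem cd42 : eqL (LW42.map codeInv) CD42 = true := by
  decide +kernel

set_option maxRecDepth 1000000 in
theorem ra42 : (LW42.all fun w => relFailAY (conjW w) [0] || EXC.contains (codeInv w)) = true := by
  decide +kernel

set_option maxRecDepth 1000000 in
theorem rb42 : (LW42.all fun w => relFailAY (conjW w) [1]) = true := by
  decide +kernel

set_option maxRecDepth 1000000 in
theorem cd43 : eqL (LW43.map codeInv) CD43 = true := by
  decide +kernel

set_option maxRecDepth 1000000 in
theorem ra43 : (LW43.all fun w => relFailAY (conjW w) [0] || EXC.contains (codeInv w)) = true := by
  decide +kernel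

set_option maxRecDepth 1000000 in
theorem rb43 : (LW43.all fun w => relFailAY (conjW w) [1]) = true := by
  decide +kernel

set_option maxRecDepth 1000000 in
theorem cd44 : eqL (LW44.map codeInv) CD44 = true := by
  decide +kernel

set_option maxRecDepth 1000000 in
theorem ra44 : (LW44.all fun w => relFailAY (conjW w) [0] || EXC.contains (codeInv w)) = true := by
  decide +kernel

set_option maxRecDepth 1000000 in
theorem rb44 : (LW44.all fun w => relFailAY (conjW w) [1]) = true := by
  decide +kernel

end

end Cfsg.Agent.Lib.Helper4.McL
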