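import Cfsg.Agent.Lib.Helper4.McL.OBasic
import Cfsg.Agent.Lib.Helper4.McL.OData
import Cfsg.Agent.Lib.Helper4.McL.OCls0
import Cfsg.Agent.Lib.Helper4.McL.OCls1
import Cfsg.Agent.Lib.Helper4.McL.OCls2
import Cfsg.Agent.Lib.Helper4.McL.OCls3
import Cfsg.Agent.Lib.Helper4.McL.OCls4
import Cfsg.Agent.Lib.Helper4.McL.OCls5
import Cfsg.Agent.Lib.Helper4.McL.OCls6
import Cfsg.Agent.Lib.Helper4.McL.OCls7

set_option autoImplicit false

/-!
# Further checks for the automorphisms of the McLaughlin group on 275 points

The codes of the involutions increase; the 22 exceptions; an element normalising the subgroup of order 11; the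
second generator as a word in the involution and the generator of order 11; the relations of this pair; the outer
involution normalising the group.
-/

namespace Cfsg.Agent.Lib.Helper4.McL

open Cfsg.Agent.Lib.Helper10.SX

noncomputable section

/-- the parts of the list of conjugators -/
def LWs : List (List (List ℕ)) := [LW0, LW1, LW2, LW3, LW4, LW5, LW6, LW7, LW8, LW9, LW10, LW11, LW12, LW13, LW14, LW15, LW16, LW17, LW18, LW19, LW20, LW21, LW22, LW23, LW24, LW25, LW26, LW27, LW28, LW29, LW30, LW31, LW32, LW33, LW34, LW35, LW36, LW37, LW38, LW39, LW40, LW41, LW42, LW43, LW44]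

/-- the parts of the list of codes -/
def CDs : List (List ℕ) := [CD0, CD1, CD2, CD3, CD4, CD5, CD6, CD7, CD8, CD9, CD10, CD11, CD12, CD13, CD14, CD15, CD16, CD17, CD18, CD19, CD20, CD21, CD22, CD23, CD24, CD25, CD26, CD27, CD28, CD29, CD30, CD31, CD32, CD33, CD34, CD35, CD36, CD37, CD38, CD39, CD40, CD41, CD42, CD43, CD44]

set_option maxRecDepth 1000000 in
theorem incr_codes : incrAll 0 CDs = true := by
  decide +kernel

set_option maxRecDepth 1000000 in
theorem len_codes : (CDs.map List.length).sum = 22275 := by
  decide +kernel

/-- the conjugators of the 22 exceptions -/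
def EXW : List (List ℕ) := (List.range 11).flatMap fun i => [rpt i [0], rpt i [0] ++ W2]

theorem exc_codes : eqL (EXW.map codeInv) EXC = true := by
  decide +kernel

theorem normY : sigEq (nW ++ ([0] ++ winv nW)) [0, 0, 0] = true := by
  decide +kernel

theorem wordB : sigEq [2] BS.flatten = true := by
  decide +kernel

theorem relT : relFailAY tw [0] = false := by
  decide +kernel

theorem neY : sigEq [0] [] = false := by
  decide +kernel

theorem y11 : sigEq (rpt 11 [0]) [] = true := by
  decide +kernel

theorem sqT : sigEq (tw ++ tw) [] = true := by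
  decide +kernel

theorem neT : sigEq tw [] = false := by
  decide +kernel

/-! ### the outer involution -/

theorem invT0 : invB 275 cT0 cT0 = true := by
  decide +kernel

theorem commT0Y : (allLt 275 fun x =>
    Nat.beq (ap 275 cT0 (ap 275 cA x)) (ap 275 cA (ap 275 cT0 x))) = true := by
  decide +kernel

/-- the word of the conjugate of the involution by the outer involution -/
def A3 : List ℕ := conjW (rpt 9 [0] ++ W2)

theorem conjT0 : (allLt 275 fun x =>
    Nat.beq (ap 275 cT0 (evW tw x)) (evW A3 (ap 275 cT0 x))) = true := by
  decide +kernel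

theorem movedT0 : cntLt 275 (fun x => !(Nat.beq (ap 275 cT0 x) x)) = 264 := by
  decide +kernel

theorem movedT : cntLt 275 (fun x => !(Nat.beq (evW tw x) x)) = 240 := by
  decide +kernel

/-- the product of the two generators fixes one point only -/
theorem fixU : (allLt 275 fun x => !(Nat.beq (evW [0, 2] x) x) || Nat.beq x 0) = true := by
  decide +kernel

theorem fixU0 : evW [0, 2] 0 = 0 := by
  decide +kernel

end

end Cfsg.Agent.Lib.Helper4.McL
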