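import Cfsg.Agent.Lib.Helper4.McL.OChkS
import Cfsg.Agent.Lib.Helper4.McL.OChkMisc
import Cfsg.Agent.Lib.Helper4.McL.OChkCls0
import Cfsg.Agent.Lib.Helper4.McL.OChkCls1
import Cfsg.Agent.Lib.Helper4.McL.OChkCls2
import Cfsg.Agent.Lib.Helper4.McL.OChkCls3
import Cfsg.Agent.Lib.Helper4.McL.OChkCls4
import Cfsg.Agent.Lib.Helper4.McL.OChkCls5
import Cfsg.Agent.Lib.Helper4.McL.OChkCls6
import Cfsg.Agent.Lib.Helper4.McL.OChkCls7

set_option autoImplicit false

/-!
# The McLaughlin group on 275 points has exactly two classes of outer automorphisms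
-/

namespace Cfsg.Agent.Lib.Helper4.McL

open Cfsg
open Cfsg.Agent.Lib.Helper10.SX Cfsg.Agent.Lib.Helper10.OutG
open MulAction

attribute [local irreducible] perm

noncomputable section

/-! ### the generating pair -/

/-- the involution -/
def t : ↥P := gw tw

/-- the generator of order 11 -/
def y : ↥P := gw [0]

theorem t_sq : t * t = 1 := by
  rw [t, ← gw_append]
  exact (sigEq_iff _ _).mp sqT

theorem t_ne : t ≠ 1 := (sigEq_eq_false_iff tw []).mp neT

theorem orderOf_t : orderOf t = 2 :=
  orderOf_eq_prime (by rw [pow_two]; exact t_sq) t_ne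

theorem y_pow : y ^ 11 = 1 := by
  rw [y, ← gw_rpt]
  exact (sigEq_iff _ _).mp y11

theorem y_ne : y ≠ 1 := (sigEq_eq_false_iff [0] []).mp neY

instance fact11 : Fact (Nat.Prime 11) := ⟨by norm_num⟩

theorem orderOf_y : orderOf y = 11 := orderOf_eq_prime y_pow y_ne

theorem gw_rpt_y (i : ℕ) : gw (rpt i [0]) = y ^ i := gw_rpt i [0]

theorem gw_yinv : gw [1] = y⁻¹ := by
  have : ([1] : List ℕ) = winv [0] := rfl
  rw [this, gw_winv]
  rfl

theorem y_pow_ten : y ^ 10 = y⁻¹ := by
  rw [eq_inv_iff_mul_eq_one, ← pow_succ]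
  exact y_pow

/-- the element of order 5 normalising the subgroup of order 11 -/
def nn : ↥P := gw nW

theorem nn_conj : nn * y * nn⁻¹ = y ^ 3 := by
  have h := (sigEq_iff _ _).mp normY
  rw [gw_append, gw_append, gw_winv] at h
  show gw nW * gw [0] * (gw nW)⁻¹ = gw [0] ^ 3
  rw [mul_assoc, h]
  exact gw_rpt 3 [0]

theorem nn_pow_conj (i m : ℕ) : nn ^ i * y ^ m * (nn ^ i)⁻¹ = y ^ (m * 3 ^ i) := by
  induction i with
  | zero => rw [pow_zero, one_mul, inv_one, mul_one, pow_zero, mul_one]
  | succ i ih =>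
    have e : nn ^ (i + 1) * y ^ m * (nn ^ (i + 1))⁻¹ =
        nn * (nn ^ i * y ^ m * (nn ^ i)⁻¹) * nn⁻¹ := by
      rw [pow_succ']
      group
    rw [e, ih, ← conj_pow, nn_conj, ← pow_mul, pow_succ]
    congr 1
    ring

theorem exists_conj_pow (y' : ↥P) (hy' : orderOf y' = 11) :
    ∃ g : ↥P, g * y' * g⁻¹ = y ∨ g * y' * g⁻¹ = y⁻¹ := by
  obtain ⟨g0, hg0⟩ := exists_conj_mem_zpowers 11 (by rw [card_P]; norm_num [NMcL]) y y' orderOf_y hy'
  have ho : orderOf (g0 * y' * g0⁻¹) = 11 := by
    rw [← MulAut.conj_apply, MulEquiv.orderOf_eq]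
    exact hy'
  rw [← mem_powers_iff_mem_zpowers, Submonoid.mem_powers_iff] at hg0
  obtain ⟨m, hm⟩ := hg0
  have hm' : y ^ (m % 11) = g0 * y' * g0⁻¹ := by
    rw [← hm, ← orderOf_y, pow_mod_orderOf]
  have hm0 : m % 11 ≠ 0 := by
    intro h0
    rw [h0, pow_zero] at hm'
    rw [← hm', orderOf_one] at ho
    omega
  have hdec : ∀ r < 11, r ≠ 0 → ∃ i < 5, (r * 3 ^ i) % 11 = 1 ∨ (r * 3 ^ i) % 11 = 10 := by
    decide
  obtain ⟨i, -, hi⟩ := hdec (m % 11) (Nat.mod_lt _ (by norm_num)) hm0
  refine ⟨nn ^ i * g0, ?_⟩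
  have e : nn ^ i * g0 * y' * (nn ^ i * g0)⁻¹ = nn ^ i * (g0 * y' * g0⁻¹) * (nn ^ i)⁻¹ := by
    group
  rw [e, ← hm', nn_pow_conj]
  have hp : y ^ (m % 11 * 3 ^ i) = y ^ ((m % 11 * 3 ^ i) % 11) := by
    rw [← orderOf_y, pow_mod_orderOf]
  rw [hp]
  rcases hi with hi | hi
  · left
    rw [hi, pow_one]
  · right
    rw [hi, y_pow_ten]

/-! ### all involutions are conjugate -/

theorem wgS : WordGroup 128 SWs mtS := ⟨by norm_num, rfl, tableS, distinctS⟩

/-- the Sylow 2-subgroup -/
def S2 : Subgroup ↥P := wgS.subgroup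

theorem card_S2 : Nat.card ↥S2 = 2 ^ 7 := wgS.card_subgroup

theorem invol_conj_S2 : ∀ g ∈ S2, orderOf g = 2 → IsConj t g := by
  rintro g ⟨i, hi, rfl⟩ h2
  have h := involS
  unfold involB at h
  rw [allLt_iff] at h
  have h := h i hi
  rw [Bool.or_eq_true, Bool.or_eq_true] at h
  rcases h with (h | h) | h
  · exfalso
    have hi0 : i = 0 := Nat.eq_of_beq_eq_true h
    rw [hi0, wgS.one, gw_nil, orderOf_one] at h2
    omega
  · exfalso
    rw [Bool.not_eq_true', sigEq_eq_false_iff, gw_append] at h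
    apply h
    rw [← pow_two, ← h2, pow_orderOf_eq_one]
    rfl
  · have h1 := (sigEq_iff _ _).mp h
    rw [gw_conjW] at h1
    exact isConj_iff.mpr ⟨gw (wd SCs i), by rw [mul_assoc]; exact h1⟩

/-- all involutions of the group are conjugate -/
theorem P_involutions_conj : ∀ a b : ↥P, orderOf a = 2 → orderOf b = 2 → IsConj a b :=
  isConj_involutions_of_sylow t 7016625 7 (by decide) (by rw [card_P]; norm_num [NMcL]) S2 card_S2
    invol_conj_S2

/-! ### the order of the centraliser of the involution -/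

theorem chainSet_subset {G α : Type*} [Group G] [MulAction G α] (S K : Subgroup G) (hSK : S ≤ K) :
    ∀ lv : List (α × List G), (∀ q ∈ lv, ∀ g ∈ q.2, g ∈ K) → chainSet S lv ⊆ (K : Set G)
  | [], _ => fun _ hx => hSK hx
  | p :: rest, h => by
    rintro x ⟨g, hg, m, hm, rfl⟩
    exact K.mul_mem (h p List.mem_cons_self g hg)
      (chainSet_subset S K hSK rest (fun q hq => h q (List.mem_cons_of_mem _ hq)) hm)

theorem lvC_mem : ∀ q ∈ lvC.map toLvl, ∀ g ∈ q.2, g ∈ Subgroup.centralizer ({t} : Set ↥P) := by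
  intro q hq g hg
  obtain ⟨q', hq', rfl⟩ := List.mem_map.mp hq
  obtain ⟨w, hw, rfl⟩ := List.mem_map.mp hg
  have h := centC
  unfold centB at h
  rw [List.all_eq_true] at h
  have h := h q' hq'
  rw [List.all_eq_true] at h
  have h1 := (sigEq_iff _ _).mp (h w hw)
  rw [gw_append, gw_append] at h1
  rw [Subgroup.mem_centralizer_singleton_iff]
  exact h1

theorem card_C_ge : 40320 ≤ Nat.card ↥(Subgroup.centralizer ({t} : Set ↥P)) := by
  have h1 := chainSet_card (⊥ : Subgroup ↥P) (lvC.map toLvl) (chainB_sound lvC chainC)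
    (fun q _ s hs => by rw [Subgroup.mem_bot.mp hs, one_smul])
  have h2 : ((lvC.map toLvl).map fun q => q.2.length) = lvC.map fun q => q.2.length := by
    rw [List.map_map]
    apply List.map_congr_left
    intro q _
    show (q.2.map gw).length = q.2.length
    rw [List.length_map]
  rw [h2, prodC, Subgroup.card_bot, mul_one] at h1
  have h3 := chainSet_subset (⊥ : Subgroup ↥P) (Subgroup.centralizer ({t} : Set ↥P)) bot_le
    (lvC.map toLvl) lvC_mem
  calc 40320 ≤ (chainSet (⊥ : Subgroup ↥P) (lvC.map toLvl)).ncard := h1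
    _ ≤ ((Subgroup.centralizer ({t} : Set ↥P) : Subgroup ↥P) : Set ↥P).ncard :=
        Set.ncard_le_ncard h3 (Set.toFinite _)
    _ = Nat.card ↥(Subgroup.centralizer ({t} : Set ↥P)) := (Nat.card_coe_set_eq _).symm

/-! ### the list of the involutions -/

/-- the conjugating words -/
def LW : List (List ℕ) := LWs.flatten

/-- the involutions -/
def invs : List ↥P := LW.map fun w => gw (conjW w)

theorem codes_eq : ∀ p ∈ List.zip LWs CDs, p.1.map codeInv = p.2 := by
  intro p hp
  simp only [LWs, CDs, List.zip_cons_cons, List.zip_nil_right, List.mem_cons, List.not_mem_nil,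
    or_false] at hp
  rcases hp with rfl | rfl | rfl | rfl | rfl | rfl | rfl | rfl | rfl | rfl | rfl | rfl | rfl | rfl | rfl | rfl | rfl | rfl | rfl | rfl | rfl | rfl | rfl | rfl | rfl | rfl | rfl | rfl | rfl | rfl | rfl | rfl | rfl | rfl | rfl | rfl | rfl | rfl | rfl | rfl | rfl | rfl | rfl | rfl | rfl
  · exact eq_of_eqL cd0
  · exact eq_of_eqL cd1
  · exact eq_of_eqL cd2
  · exact eq_of_eqL cd3
  · exact eq_of_eqL cd4
  · exact eq_of_eqL cd5
  · exact eq_of_eqL cd6
  · exact eq_of_eqL cd7
  · exact eq_of_eqL cd8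
  · exact eq_of_eqL cd9
  · exact eq_of_eqL cd10
  · exact eq_of_eqL cd11
  · exact eq_of_eqL cd12
  · exact eq_of_eqL cd13
  · exact eq_of_eqL cd14
  · exact eq_of_eqL cd15
  · exact eq_of_eqL cd16
  · exact eq_of_eqL cd17
  · exact eq_of_eqL cd18
  · exact eq_of_eqL cd19
  · exact eq_of_eqL cd20
  · exact eq_of_eqL cd21
  · exact eq_of_eqL cd22
  · exact eq_of_eqL cd23
  · exact eq_of_eqL cd24
  · exact eq_of_eqL cd25
  · exact eq_of_eqL cd26
  · exact eq_of_eqL cd27
  · exact eq_of_eqL cd28
  · exact eq_of_eqL cd29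
  · exact eq_of_eqL cd30
  · exact eq_of_eqL cd31
  · exact eq_of_eqL cd32
  · exact eq_of_eqL cd33
  · exact eq_of_eqL cd34
  · exact eq_of_eqL cd35
  · exact eq_of_eqL cd36
  · exact eq_of_eqL cd37
  · exact eq_of_eqL cd38
  · exact eq_of_eqL cd39
  · exact eq_of_eqL cd40
  · exact eq_of_eqL cd41
  · exact eq_of_eqL cd42
  · exact eq_of_eqL cd43
  · exact eq_of_eqL cd44

theorem codes_flatten : LW.map codeInv = CDs.flatten := by
  unfold LW
  rw [List.map_flatten, map_eq_of_zip codeInv LWs CDs rfl codes_eq]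

theorem invs_nodup : invs.Nodup := by
  apply List.Nodup.of_map hcode
  have : invs.map hcode = LW.map codeInv := by
    unfold invs
    rw [List.map_map]
    apply List.map_congr_left
    intro w _
    exact (codeInv_eq w).symm
  rw [this, codes_flatten]
  exact nodup_of_incrFrom _ 0 (incrFrom_flatten CDs 0 incr_codes)

theorem invs_length : invs.length = 22275 := by
  unfold invs
  rw [List.length_map, ← List.length_map (f := codeInv), codes_flatten, List.length_flatten]
  exact len_codes

theorem mem_invs_of_involution (a : ↥P) (ha : orderOf a = 2) : a ∈ invs := by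
  have hconj : IsConj t a := P_involutions_conj t a orderOf_t ha
  have hsub : (↑invs.toFinset : Set ↥P) ⊆ {a | IsConj t a} := by
    intro x hx
    rw [Finset.mem_coe, List.mem_toFinset] at hx
    obtain ⟨w, -, rfl⟩ := List.mem_map.mp hx
    rw [Set.mem_ofPred_eq, gw_conjW, isConj_iff]
    exact ⟨gw w, by rw [mul_assoc]; rfl⟩
  have hcard : {a : ↥P | IsConj t a}.ncard ≤ 22275 := by
    have h := ncard_isConj t
    rw [card_P] at h
    have h2 := card_C_ge
    by_contra hlt
    push Not at hlt
    have : 22276 * 40320 ≤ {a : ↥P | IsConj t a}.ncard *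
        Nat.card ↥(Subgroup.centralizer ({t} : Set ↥P)) := Nat.mul_le_mul hlt h2
    rw [h] at this
    norm_num [NMcL] at this
  have heq : (↑invs.toFinset : Set ↥P) = {a | IsConj t a} := by
    refine Set.eq_of_subset_of_ncard_le hsub ?_ (Set.toFinite _)
    rw [Set.ncard_coe_finset, List.toFinset_card_of_nodup invs_nodup, invs_length]
    exact hcard
  have hmem : a ∈ (↑invs.toFinset : Set ↥P) := by rw [heq]; exact hconj
  rwa [Finset.mem_coe, List.mem_toFinset] at hmem

/-! ### the images of the generating pair under automorphisms -/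

/-- the image of the involution under an outer automorphism -/
def a2 : ↥P := gw (conjW W2)

theorem mem_EXW {v : List ℕ} (hv : v ∈ EXW) : ∃ i : ℕ, v = rpt i [0] ∨ v = rpt i [0] ++ W2 := by
  obtain ⟨i, -, hi⟩ := List.mem_flatMap.mp hv
  refine ⟨i, ?_⟩
  rcases List.mem_cons.mp hi with h | h
  · exact Or.inl h
  · exact Or.inr (List.mem_singleton.mp h)

theorem gw_conjW_exc {v : List ℕ} (hv : v ∈ EXW) :
    ∃ i : ℕ, gw (conjW v) = y ^ i * t * (y ^ i)⁻¹ ∨ gw (conjW v) = y ^ i * a2 * (y ^ i)⁻¹ := by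
  obtain ⟨i, rfl | rfl⟩ := mem_EXW hv
  · refine ⟨i, Or.inl ?_⟩
    rw [gw_conjW, gw_rpt_y, mul_assoc]
    rfl
  · refine ⟨i, Or.inr ?_⟩
    rw [gw_conjW, gw_append, gw_rpt_y, a2, gw_conjW]
    group

theorem rel_ty : Rel t y := rel_of_not_fail relT

theorem rel_one : ∀ l ∈ LWs, ∀ w ∈ l, relFailAY (conjW w) [0] = true ∨ codeInv w ∈ EXC := by
  intro l hl w hw
  have key : (l.all fun w => relFailAY (conjW w) [0] || EXC.contains (codeInv w)) = true := by
    simp only [LWs, List.mem_cons, List.not_mem_nil, or_false] at hl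
    rcases hl with rfl | rfl | rfl | rfl | rfl | rfl | rfl | rfl | rfl | rfl | rfl | rfl | rfl | rfl | rfl | rfl | rfl | rfl | rfl | rfl | rfl | rfl | rfl | rfl | rfl | rfl | rfl | rfl | rfl | rfl | rfl | rfl | rfl | rfl | rfl | rfl | rfl | rfl | rfl | rfl | rfl | rfl | rfl | rfl | rfl
    · exact ra0
    · exact ra1
    · exact ra2
    · exact ra3
    · exact ra4
    · exact ra5
    · exact ra6
    · exact ra7
    · exact ra8
    · exact ra9
    · exact ra10
    · exact ra11
    · exact ra12
    · exact ra13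
    · exact ra14
    · exact ra15
    · exact ra16
    · exact ra17
    · exact ra18
    · exact ra19
    · exact ra20
    · exact ra21
    · exact ra22
    · exact ra23
    · exact ra24
    · exact ra25
    · exact ra26
    · exact ra27
    · exact ra28
    · exact ra29
    · exact ra30
    · exact ra31
    · exact ra32
    · exact ra33
    · exact ra34
    · exact ra35
    · exact ra36
    · exact ra37
    · exact ra38
    · exact ra39
    · exact ra40
    · exact ra41
    · exact ra42
    · exact ra43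
    · exact ra44
  rw [List.all_eq_true] at key
  have := key w hw
  rw [Bool.or_eq_true] at this
  rcases this with h | h
  · exact Or.inl h
  · exact Or.inr (List.contains_iff_mem.mp h)

theorem rel_inv : ∀ l ∈ LWs, ∀ w ∈ l, relFailAY (conjW w) [1] = true := by
  intro l hl w hw
  have key : (l.all fun w => relFailAY (conjW w) [1]) = true := by
    simp only [LWs, List.mem_cons, List.not_mem_nil, or_false] at hl
    rcases hl with rfl | rfl | rfl | rfl | rfl | rfl | rfl | rfl | rfl | rfl | rfl | rfl | rfl | rfl | rfl | rfl | rfl | rfl | rfl | rfl | rfl | rfl | rfl | rfl | rfl | rfl | rfl | rfl | rfl | rfl | rfl | rfl | rfl | rfl | rfl | rfl | rfl | rfl | rfl | rfl | rfl | rfl | rfl | rfl | rfl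
    · exact rb0
    · exact rb1
    · exact rb2
    · exact rb3
    · exact rb4
    · exact rb5
    · exact rb6
    · exact rb7
    · exact rb8
    · exact rb9
    · exact rb10
    · exact rb11
    · exact rb12
    · exact rb13
    · exact rb14
    · exact rb15
    · exact rb16
    · exact rb17
    · exact rb18
    · exact rb19
    · exact rb20
    · exact rb21
    · exact rb22
    · exact rb23
    · exact rb24
    · exact rb25
    · exact rb26
    · exact rb27
    · exact rb28
    · exact rb29
    · exact rb30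
    · exact rb31
    · exact rb32
    · exact rb33
    · exact rb34
    · exact rb35
    · exact rb36
    · exact rb37
    · exact rb38
    · exact rb39
    · exact rb40
    · exact rb41
    · exact rb42
    · exact rb43
    · exact rb44
  rw [List.all_eq_true] at key
  exact key w hw

theorem aut_images (α : MulAut ↥P) :
    ∃ h : ↥P, (α t = h * t * h⁻¹ ∨ α t = h * a2 * h⁻¹) ∧ α y = h * y * h⁻¹ := by
  have hαy : orderOf (α y) = 11 := by
    rw [MulEquiv.orderOf_eq]
    exact orderOf_y
  obtain ⟨g, hg⟩ := exists_conj_pow (α y) hαy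
  let β : ↥P →* ↥P := (MulAut.conj g).toMonoidHom.comp α.toMonoidHom
  have hβt : β t = g * α t * g⁻¹ := rfl
  have hβy : β y = g * α y * g⁻¹ := rfl
  have hrel : Rel (β t) (β y) := rel_ty.map β
  have hinv : orderOf (β t) = 2 := by
    rw [hβt, ← MulAut.conj_apply, MulEquiv.orderOf_eq, MulEquiv.orderOf_eq]
    exact orderOf_t
  have hmem := mem_invs_of_involution (β t) hinv
  obtain ⟨w, hwm, hw⟩ := List.mem_map.mp hmem
  obtain ⟨l, hl, hwl⟩ := List.mem_flatten.mp hwm
  rcases hg with hg | hg
  · rcases rel_one l hl w hwl with hf | hex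
    · exfalso
      apply not_rel_of_fail hf
      rw [hw]
      show Rel (β t) y
      rw [← hg, ← hβy]
      exact hrel
    · rw [← eq_of_eqL exc_codes, List.mem_map] at hex
      obtain ⟨v, hv, hvc⟩ := hex
      have hvw : gw (conjW v) = gw (conjW w) := by
        apply hcode_injective
        rw [← codeInv_eq, ← codeInv_eq]
        exact hvc
      obtain ⟨i, hi⟩ := gw_conjW_exc hv
      rw [hvw, hw, hβt] at hi
      refine ⟨g⁻¹ * y ^ i, ?_, ?_⟩
      · rcases hi with hi | hi
        · left
          have e : α t = g⁻¹ * (g * α t * g⁻¹) * g := by group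
          rw [e, hi]
          group
        · right
          have e : α t = g⁻¹ * (g * α t * g⁻¹) * g := by group
          rw [e, hi]
          group
      · have e : α y = g⁻¹ * (g * α y * g⁻¹) * g := by group
        rw [e, hg]
        have hc : y ^ i * y = y * y ^ i := pow_mul_comm' y i
        calc g⁻¹ * y * g = g⁻¹ * (y * y ^ i * (y ^ i)⁻¹) * g := by group
          _ = g⁻¹ * (y ^ i * y * (y ^ i)⁻¹) * g := by rw [hc]
          _ = g⁻¹ * y ^ i * y * (g⁻¹ * y ^ i)⁻¹ := by group
  · exfalso
    apply not_rel_of_fail (rel_inv l hl w hwl)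
    rw [hw, gw_yinv, ← hg, ← hβy]
    exact hrel

/-! ### generation -/

theorem gw_flatten (l : List (List ℕ)) : gw l.flatten = (l.map gw).prod := by
  induction l with
  | nil => rfl
  | cons a l ih => rw [List.flatten_cons, gw_append, ih, List.map_cons, List.prod_cons]

theorem gen_ty : Subgroup.closure ({t, y} : Set ↥P) = ⊤ := by
  have ht : t ∈ Subgroup.closure ({t, y} : Set ↥P) := Subgroup.subset_closure (by simp)
  have hy : y ∈ Subgroup.closure ({t, y} : Set ↥P) := Subgroup.subset_closure (by simp)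
  have hB : gw [2] ∈ Subgroup.closure ({t, y} : Set ↥P) := by
    rw [(sigEq_iff _ _).mp wordB, gw_flatten]
    apply Subgroup.list_prod_mem
    intro x hx
    obtain ⟨s, hs, rfl⟩ := List.mem_map.mp hx
    have hall : BS.all (fun s => s == tw || s == rpt s.length [0] || s == rpt s.length [1]) = true := by
      decide
    rw [List.all_eq_true] at hall
    have h := hall s hs
    simp only [Bool.or_eq_true, beq_iff_eq] at h
    rcases h with (h | h) | h
    · rw [h]; exact ht
    · rw [h, gw_rpt_y]; exact Subgroup.pow_mem _ hy _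
    · rw [h, gw_rpt, gw_yinv]; exact Subgroup.pow_mem _ (Subgroup.inv_mem _ hy) _
  rw [eq_top_iff]
  have hle : P ≤ (Subgroup.closure ({t, y} : Set ↥P)).map P.subtype := by
    apply grp_le_iff.mpr
    intro c hc
    simp only [List.mem_cons, List.not_mem_nil, or_false] at hc
    rcases hc with rfl | rfl
    · refine ⟨y, hy, ?_⟩
      show pw [0] = perm 275 cA
      rw [pw_cons, pw_nil, mul_one]
      rfl
    · refine ⟨gw [2], hB, ?_⟩
      show pw [2] = perm 275 cB
      rw [pw_cons, pw_nil, mul_one]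
      rfl
  intro g _
  obtain ⟨h, hh, hgh⟩ := hle g.2
  have : h = g := Subtype.ext hgh
  rw [← this]
  exact hh

theorem card_mulAut_P : Nat.card (MulAut ↥P) ≤ 2 * Nat.card ↥P :=
  card_mulAut_le t y a2 gen_ty aut_images

/-! ### the centraliser of the group in the symmetric group -/

/-- the point fixed by the product of the two generators -/
def p0 : Fin 275 := fpt 0

theorem fix_U (p : Fin 275) (hp : pw [0, 2] p = p) : p = p0 := by
  have h := fixU
  rw [allLt_iff] at h
  have h1 := h p.val p.isLt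
  rw [Bool.or_eq_true] at h1
  rcases h1 with h1 | h1
  · exfalso
    rw [Bool.not_eq_true'] at h1
    have h2 : evW [0, 2] p.val = p.val := by
      rw [← pw_apply_val, hp]
    rw [h2, Nat.beq_refl] at h1
    exact absurd h1 (by decide)
  · apply Fin.ext
    rw [Nat.eq_of_beq_eq_true h1]
    rfl

theorem U_p0 : pw [0, 2] p0 = p0 := by
  apply Fin.ext
  rw [pw_apply_val]
  exact fixU0

theorem exists_map (q : Fin 275) : ∃ w : List ℕ, pw w p0 = q := by
  have h : (allLt 275 fun x => (lvW1.map fun w => evW w 0).contains x) = true := by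
    decide +kernel
  rw [allLt_iff] at h
  have h1 := List.contains_iff_mem.mp (h q.val q.isLt)
  obtain ⟨w, -, hw⟩ := List.mem_map.mp h1
  refine ⟨w, ?_⟩
  apply Fin.ext
  rw [pw_apply_val]
  exact hw

theorem eq_one_of_commute (c : Equiv.Perm (Fin 275))
    (hc : ∀ x : ↥P, c * x.val = x.val * c) : c = 1 := by
  have hcp0 : c p0 = p0 := by
    apply fix_U
    have h1 := DFunLike.congr_fun (hc (gw [0, 2])) p0
    rw [Equiv.Perm.mul_apply, Equiv.Perm.mul_apply] at h1
    have h2 : (gw [0, 2]).val = pw [0, 2] := rfl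
    rw [h2, U_p0] at h1
    exact h1.symm
  apply Equiv.ext
  intro q
  obtain ⟨w, hw⟩ := exists_map q
  have h2 := DFunLike.congr_fun (hc (gw w)) p0
  rw [Equiv.Perm.mul_apply, Equiv.Perm.mul_apply, hcp0] at h2
  have h3 : (gw w).val = pw w := rfl
  rw [h3, hw] at h2
  rw [Equiv.Perm.one_apply]
  exact h2

theorem center_P : Subgroup.center ↥P = ⊥ := by
  rw [eq_bot_iff]
  intro z hz
  rw [Subgroup.mem_bot]
  apply Subtype.ext
  apply eq_one_of_commute
  intro x
  have := Subgroup.mem_center_iff.mp hz x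
  have h2 := congrArg Subtype.val this
  rw [Subgroup.coe_mul, Subgroup.coe_mul] at h2
  exact h2.symm

/-! ### the outer automorphism -/

/-- the outer involution -/
local notation "pT" => perm 275 cT0

theorem validT : Valid 275 cT0 := valid_of_invOf ((invB_iff _ _ _).mp invT0)

theorem pT_inv : pT = pT⁻¹ := perm_inv_of_invOf ((invB_iff _ _ _).mp invT0) validT

theorem pT_sq : pT * pT = 1 := by
  nth_rewrite 1 [pT_inv]
  exact inv_mul_cancel pT

theorem pT_val (i : Fin 275) : (pT i).val = ap 275 cT0 i.val := perm_apply_val validT i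

theorem pT_comm_Y : pT * perm 275 cA = perm 275 cA * pT := by
  apply Equiv.ext
  intro i
  apply Fin.ext
  rw [Equiv.Perm.mul_apply, Equiv.Perm.mul_apply, pT_val, perm_apply_val valid_A,
    perm_apply_val valid_A, pT_val]
  have h := commT0Y
  rw [allLt_iff] at h
  exact Nat.eq_of_beq_eq_true (h i.val i.isLt)

theorem pT_conj_t : pT * pw tw = pw A3 * pT := by
  apply Equiv.ext
  intro i
  apply Fin.ext
  rw [Equiv.Perm.mul_apply, Equiv.Perm.mul_apply, pT_val, pw_apply_val, pw_apply_val, pT_val]
  have h := conjT0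
  rw [allLt_iff] at h
  exact Nat.eq_of_beq_eq_true (h i.val i.isLt)

theorem y_val : y.val = perm 275 cA := by
  show pw [0] = perm 275 cA
  rw [pw_cons, pw_nil, mul_one]
  rfl

/-- the elements whose conjugates by the outer involution lie in the group -/
def NT : Subgroup ↥P where
  carrier := {g | pT * g.val * pT⁻¹ ∈ P}
  one_mem' := by
    show pT * (1 : ↥P).val * pT⁻¹ ∈ P
    rw [Subgroup.coe_one, mul_one, mul_inv_cancel]
    exact P.one_mem
  mul_mem' := by
    intro a b ha hb
    show pT * (a * b).val * pT⁻¹ ∈ P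
    have e : pT * (a * b).val * pT⁻¹ = (pT * a.val * pT⁻¹) * (pT * b.val * pT⁻¹) := by
      rw [Subgroup.coe_mul]
      group
    rw [e]
    exact P.mul_mem ha hb
  inv_mem' := by
    intro a ha
    show pT * (a⁻¹).val * pT⁻¹ ∈ P
    have e : pT * (a⁻¹).val * pT⁻¹ = (pT * a.val * pT⁻¹)⁻¹ := by
      rw [Subgroup.coe_inv]
      group
    rw [e]
    exact P.inv_mem ha

theorem NT_top : NT = ⊤ := by
  rw [eq_top_iff, ← gen_ty, Subgroup.closure_le]
  rintro x (rfl | rfl)
  · show pT * pw tw * pT⁻¹ ∈ P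
    rw [pT_conj_t, mul_inv_cancel_right]
    exact pw_mem A3
  · show pT * y.val * pT⁻¹ ∈ P
    rw [y_val, pT_comm_Y, mul_inv_cancel_right]
    exact perm_mem_grp mem_A

theorem conj_mem (g : ↥P) : pT * g.val * pT⁻¹ ∈ P := by
  have : g ∈ NT := by rw [NT_top]; exact Subgroup.mem_top g
  exact this

/-- conjugation by the outer involution -/
def phiT : MulAut ↥P where
  toFun g := ⟨pT * g.val * pT⁻¹, conj_mem g⟩
  invFun g := ⟨pT * g.val * pT⁻¹, conj_mem g⟩
  left_inv g := by
    apply Subtype.ext
    show pT * (pT * g.val * pT⁻¹) * pT⁻¹ = g.val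
    rw [← pT_inv]
    calc pT * (pT * g.val * pT) * pT = (pT * pT) * g.val * (pT * pT) := by group
      _ = g.val := by rw [pT_sq, one_mul, mul_one]
  right_inv g := by
    apply Subtype.ext
    show pT * (pT * g.val * pT⁻¹) * pT⁻¹ = g.val
    rw [← pT_inv]
    calc pT * (pT * g.val * pT) * pT = (pT * pT) * g.val * (pT * pT) := by group
      _ = g.val := by rw [pT_sq, one_mul, mul_one]
  map_mul' a b := by
    apply Subtype.ext
    show pT * (a * b).val * pT⁻¹ = (pT * a.val * pT⁻¹) * (pT * b.val * pT⁻¹)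
    rw [Subgroup.coe_mul]
    group

theorem phiT_apply (x : ↥P) : (phiT x).val = pT * x.val * pT⁻¹ := rfl

theorem conj_val (g x : ↥P) : ((MulAut.conj g) x).val = g.val * x.val * g.val⁻¹ := rfl

theorem card_support_pw (w : List ℕ) :
    (pw w).support.card = cntLt 275 fun x => !(Nat.beq (evW w x) x) := by
  rw [cntLt_eq, ← Fin.sum_univ_eq_sum_range (fun i => if (!(Nat.beq (evW w i) i)) = true then 1 else 0),
    Finset.card_eq_sum_ones, ← Finset.sum_filter]
  congr 1
  ext i
  rw [Equiv.Perm.mem_support, Finset.mem_filter, Bool.not_eq_true', Ne, Fin.ext_iff,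
    pw_apply_val]
  constructor
  · intro h
    refine ⟨Finset.mem_univ _, ?_⟩
    rw [← Bool.not_eq_true]
    intro hb
    exact h (Nat.eq_of_beq_eq_true hb)
  · rintro ⟨-, h⟩ he
    rw [he, Nat.beq_refl] at h
    exact absurd h (by decide)

theorem pT_not_mem : pT ∉ P := by
  intro hmem
  let g : ↥P := ⟨pT, hmem⟩
  have hg2 : g * g = 1 := Subtype.ext pT_sq
  have hsupp : (pT).support.card = 264 := by
    rw [card_support_perm validT]
    exact movedT0
  have hgne : g ≠ 1 := by
    intro h
    have h1 : pT = 1 := congrArg Subtype.val h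
    rw [h1, Equiv.Perm.support_one, Finset.card_empty] at hsupp
    omega
  have hog : orderOf g = 2 := orderOf_eq_prime (by rw [pow_two]; exact hg2) hgne
  obtain ⟨c, hc⟩ := isConj_iff.mp (P_involutions_conj t g orderOf_t hog)
  have hc' : c.val * pw tw * c.val⁻¹ = pT := congrArg Subtype.val hc
  have h1 : (c.val * pw tw * c.val⁻¹).support.card = (pw tw).support.card :=
    Equiv.Perm.card_support_conj
  rw [hc', hsupp, card_support_pw, movedT] at h1
  omega

theorem phiT_not_inner : phiT ∉ Cfsg.Inn ↥P := by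
  rintro ⟨g, hg⟩
  have hx : ∀ x : ↥P, g.val * x.val * g.val⁻¹ = pT * x.val * pT⁻¹ := by
    intro x
    rw [← phiT_apply, ← conj_val, hg]
  have hc : ∀ x : ↥P, (g.val⁻¹ * pT) * x.val = x.val * (g.val⁻¹ * pT) := by
    intro x
    have h1 := hx x
    calc (g.val⁻¹ * pT) * x.val = g.val⁻¹ * (pT * x.val * pT⁻¹) * pT := by group
      _ = g.val⁻¹ * (g.val * x.val * g.val⁻¹) * pT := by rw [h1]
      _ = x.val * (g.val⁻¹ * pT) := by group
  have hone : g.val⁻¹ * pT = 1 := eq_one_of_commute _ hc
  have hTg : pT = g.val := by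
    rw [inv_mul_eq_one] at hone
    exact hone.symm
  apply pT_not_mem
  rw [hTg]
  exact g.2

/-- the McLaughlin group on 275 points has two classes of outer automorphisms -/
theorem card_out_P : Nat.card (Cfsg.Out ↥P) = 2 :=
  card_out_eq_two center_P card_mulAut_P phiT phiT_not_inner

/-- the McLaughlin group of the definitions has two classes of outer automorphisms -/
theorem card_out_McL : Nat.card (Cfsg.Out ↥Cfsg.Spor.McL) = 2 := by
  rw [card_out_congr mclIso]
  exact card_out_P

end

end Cfsg.Agent.Lib.Helper4.McL
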