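import Cfsg.Agent.Lib.Helper4.McL.AChk
import Cfsg.Agent.Lib.Helper4.McL.OMain
import Cfsg.Prelude.Def_SporadicB

set_option autoImplicit false

/-!
# The centraliser of an involution of the McLaughlin group is a non-split double cover of `A₈`
-/

namespace Cfsg.Agent.Lib.Helper4.McL

open Cfsg
open Cfsg.Agent.Lib.Helper10.SX Cfsg.Agent.Lib.Helper10.OutG
open MulAction

attribute [local irreducible] perm

noncomputable section

/-! ### the sets of fixed points of the pairs of objects -/

theorem fx_lt {a : ℕ} (ha : a < 35) : fx a < 275 := by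
  apply FXl_lt
  unfold fx
  rw [List.getD_eq_getElem _ _ (by rw [FXl_length]; exact ha)]
  exact List.getElem_mem _

theorem fx_inj {a b : ℕ} (ha : a < 35) (hb : b < 35) (h : fx a = fx b) : a = b := by
  unfold fx at h
  rw [List.getD_eq_getElem _ _ (by rw [FXl_length]; exact ha),
    List.getD_eq_getElem _ _ (by rw [FXl_length]; exact hb)] at h
  exact (List.Nodup.getElem_inj_iff FXl_nodup).mp h

/-- the set of the fixed points of a pair of objects -/
def Dset (i j : Fin 8) : Set (Fin 275) :=
  {p | ∃ a, a < 35 ∧ p.val = fx a ∧ Nat.testBit (dm i.val j.val) a = true}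

theorem fpt_mem_Dset {i j : Fin 8} {a : ℕ} (ha : a < 35) :
    fpt (fx a) ∈ Dset i j ↔ Nat.testBit (dm i.val j.val) a = true := by
  constructor
  · rintro ⟨b, hb, h1, h2⟩
    rw [fpt_val (fx_lt ha)] at h1
    rw [fx_inj ha hb h1]
    exact h2
  · intro h
    exact ⟨a, ha, fpt_val (fx_lt ha), h⟩

theorem Dset_inj {i j k l : Fin 8} (hij : i ≠ j) (hkl : k ≠ l) (h : Dset i j = Dset k l) :
    (i = k ∧ j = l) ∨ (i = l ∧ j = k) := by
  have hb := dmInj
  unfold dmInjB at hb
  rw [allLt_iff] at hb
  have hb := hb i.val i.isLt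
  rw [allLt_iff] at hb
  have hb := hb j.val j.isLt
  rw [allLt_iff] at hb
  have hb := hb k.val k.isLt
  rw [allLt_iff] at hb
  have hb := hb l.val l.isLt
  simp only [Bool.or_eq_true, Bool.and_eq_true, Bool.not_eq_true'] at hb
  rcases hb with (((hb | hb) | hb) | hb) | hb
  · exact absurd (Fin.ext (Nat.eq_of_beq_eq_true hb)) hij
  · exact absurd (Fin.ext (Nat.eq_of_beq_eq_true hb)) hkl
  · exfalso
    have : (allLt 35 fun a => Nat.testBit (dm i.val j.val) a == Nat.testBit (dm k.val l.val) a) = true := by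
      rw [allLt_iff]
      intro a ha
      rw [beq_iff_eq]
      have h1 := fpt_mem_Dset (i := i) (j := j) ha
      have h2 := fpt_mem_Dset (i := k) (j := l) ha
      rw [h] at h1
      have h3 : Nat.testBit (dm i.val j.val) a = true ↔ Nat.testBit (dm k.val l.val) a = true :=
        h1.symm.trans h2
      cases hx : Nat.testBit (dm i.val j.val) a <;> cases hy : Nat.testBit (dm k.val l.val) a <;>
        simp_all
    rw [this] at hb
    exact absurd hb (by decide)
  · exact Or.inl ⟨Fin.ext (Nat.eq_of_beq_eq_true hb.1), Fin.ext (Nat.eq_of_beq_eq_true hb.2)⟩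
  · exact Or.inr ⟨Fin.ext (Nat.eq_of_beq_eq_true hb.1), Fin.ext (Nat.eq_of_beq_eq_true hb.2)⟩

/-! ### elements acting on the 8 objects -/

/-- the element maps the sets of the pairs as the permutation says -/
def Compat (c : ↥P) (π : Equiv.Perm (Fin 8)) : Prop :=
  ∀ i j : Fin 8, i ≠ j → (fun p => c • p) '' Dset i j = Dset (π i) (π j)

theorem Compat.mul {c c' : ↥P} {π π' : Equiv.Perm (Fin 8)} (h : Compat c π) (h' : Compat c' π') :
    Compat (c * c') (π * π') := by
  intro i j hij
  have e : (fun p : Fin 275 => (c * c') • p) = (fun p => c • p) ∘ (fun p => c' • p) := by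
    funext p
    exact mul_smul c c' p
  rw [e, Set.image_comp, h' i j hij, h (π' i) (π' j) (fun he => hij (π'.injective he))]
  rfl

theorem Compat.unique {c : ↥P} {π π' : Equiv.Perm (Fin 8)} (h : Compat c π) (h' : Compat c π') :
    π = π' := by
  have key : ∀ i j : Fin 8, i ≠ j → (π i = π' i ∧ π j = π' j) ∨ (π i = π' j ∧ π j = π' i) := by
    intro i j hij
    apply Dset_inj (fun he => hij (π.injective he)) (fun he => hij (π'.injective he))
    rw [← h i j hij, ← h' i j hij]
  ext i
  congr 1
  obtain ⟨j, hj, k, hk, hjk⟩ : ∃ j : Fin 8, j ≠ i ∧ ∃ k : Fin 8, k ≠ i ∧ j ≠ k := by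
    revert i
    decide
  rcases key i j (Ne.symm hj) with h1 | h1
  · exact h1.1
  · rcases key i k (Ne.symm hk) with h2 | h2
    · exact h2.1
    · exfalso
      exact hjk (π'.injective (h1.1.symm.trans h2.1))

theorem Compat.one_of_fix {c : ↥P} (h : ∀ a, a < 35 → c • fpt (fx a) = fpt (fx a)) : Compat c 1 := by
  intro i j _
  ext p
  constructor
  · rintro ⟨q, ⟨a, ha, hq, hbit⟩, rfl⟩
    have : q = fpt (fx a) := Fin.ext (hq.trans (fpt_val (fx_lt ha)).symm)
    rw [this]
    show c • fpt (fx a) ∈ _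
    rw [h a ha]
    exact (fpt_mem_Dset ha).mpr hbit
  · rintro ⟨a, ha, hp, hbit⟩
    have : p = fpt (fx a) := Fin.ext (hp.trans (fpt_val (fx_lt ha)).symm)
    rw [this]
    exact ⟨fpt (fx a), (fpt_mem_Dset ha).mpr hbit, h a ha⟩

/-- a permutation of the 8 objects from a list -/
theorem exists_perm_of_list (l : List ℕ) (h : validPi l = true) :
    ∃ π : Equiv.Perm (Fin 8), ∀ i : Fin 8, (π i).val = pil l i.val := by
  unfold validPi at h
  simp only [Bool.and_eq_true, beq_iff_eq, List.all_eq_true, decide_eq_true_eq] at h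
  obtain ⟨⟨hlen, hlt⟩, hnd⟩ := h
  have hget : ∀ i : Fin 8, pil l i.val = l[i.val]'(by rw [hlen]; exact i.isLt) := by
    intro i
    unfold pil
    rw [List.getD_eq_getElem _ _ (by rw [hlen]; exact i.isLt)]
  let f : Fin 8 → Fin 8 := fun i => ⟨pil l i.val, by
    rw [hget]
    have := hlt _ (List.getElem_mem (l := l) (by rw [hlen]; exact i.isLt))
    simpa [Nat.blt] using this⟩
  have hinj : Function.Injective f := by
    intro i j hij
    have h1 : pil l i.val = pil l j.val := congrArg Fin.val hij
    rw [hget, hget] at h1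
    exact Fin.ext ((List.Nodup.getElem_inj_iff hnd).mp h1)
  exact ⟨Equiv.ofBijective f (Finite.injective_iff_bijective.mp hinj), fun i => rfl⟩

theorem compat_of_chk {w l : List ℕ} (h : compatW w l = true) (hv : validPi l = true) :
    ∃ π : Equiv.Perm (Fin 8), (∀ i : Fin 8, (π i).val = pil l i.val) ∧ Compat (gw w) π := by
  obtain ⟨π, hπ⟩ := exists_perm_of_list l hv
  refine ⟨π, hπ, ?_⟩
  unfold compatW at h
  rw [allLt_iff] at h
  -- the map of the indices
  have hb : ∀ a, a < 35 → fxIdx (evW w (fx a)) < 35 ∧ fx (fxIdx (evW w (fx a))) = evW w (fx a) ∧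
      ∀ i j : Fin 8, i ≠ j → Nat.testBit (dm i.val j.val) a =
        Nat.testBit (dm (π i).val (π j).val) (fxIdx (evW w (fx a))) := by
    intro a ha
    have h1 := h a ha
    rw [forceB_eq, Bool.and_eq_true, Bool.and_eq_true] at h1
    obtain ⟨⟨h2, h3⟩, h4⟩ := h1
    refine ⟨by simpa [Nat.blt] using h2, Nat.eq_of_beq_eq_true h3, ?_⟩
    intro i j hij
    rw [allLt_iff] at h4
    have h5 := h4 i.val i.isLt
    rw [allLt_iff] at h5
    have h6 := h5 j.val j.isLt
    rw [Bool.or_eq_true] at h6
    rcases h6 with h6 | h6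
    · exact absurd (Fin.ext (Nat.eq_of_beq_eq_true h6)) hij
    · rw [beq_iff_eq] at h6
      rw [hπ, hπ]
      exact h6
  have hsmul : ∀ a, a < 35 → gw w • fpt (fx a) = fpt (fx (fxIdx (evW w (fx a)))) := by
    intro a ha
    apply Fin.ext
    rw [gw_smul_val, fpt_val (fx_lt ha), fpt_val (fx_lt (hb a ha).1), (hb a ha).2.1]
  -- the map of the indices is onto
  let β : Fin 35 → Fin 35 := fun a => ⟨fxIdx (evW w (fx a.val)), (hb a.val a.isLt).1⟩
  have hβinj : Function.Injective β := by
    intro a a' he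
    have h1 : fxIdx (evW w (fx a.val)) = fxIdx (evW w (fx a'.val)) := congrArg Fin.val he
    have h2 : gw w • fpt (fx a.val) = gw w • fpt (fx a'.val) := by
      rw [hsmul a.val a.isLt, hsmul a'.val a'.isLt, h1]
    have h3 : fpt (fx a.val) = fpt (fx a'.val) := MulAction.injective (gw w) h2
    have h4 := congrArg Fin.val h3
    rw [fpt_val (fx_lt a.isLt), fpt_val (fx_lt a'.isLt)] at h4
    exact Fin.ext (fx_inj a.isLt a'.isLt h4)
  have hβsurj : Function.Surjective β := Finite.injective_iff_surjective.mp hβinj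
  intro i j hij
  ext p
  constructor
  · rintro ⟨q, ⟨a, ha, hq, hbit⟩, rfl⟩
    have : q = fpt (fx a) := Fin.ext (hq.trans (fpt_val (fx_lt ha)).symm)
    rw [this]
    show gw w • fpt (fx a) ∈ _
    rw [hsmul a ha]
    apply (fpt_mem_Dset (hb a ha).1).mpr
    rw [← (hb a ha).2.2 i j hij]
    exact hbit
  · rintro ⟨b, hb', hp, hbit⟩
    obtain ⟨a, ha⟩ := hβsurj ⟨b, hb'⟩
    have hab : fxIdx (evW w (fx a.val)) = b := congrArg Fin.val ha
    have : p = fpt (fx b) := Fin.ext (hp.trans (fpt_val (fx_lt hb')).symm)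
    rw [this]
    refine ⟨fpt (fx a.val), (fpt_mem_Dset a.isLt).mpr ?_, ?_⟩
    · rw [(hb a.val a.isLt).2.2 i j hij, hab]
      exact hbit
    · show gw w • fpt (fx a.val) = _
      rw [hsmul a.val a.isLt, hab]

theorem compatL_mem : ∀ (ws ls : List (List ℕ)), compatL ws ls = true →
    ∀ x ∈ List.zip ws ls, compatW x.1 x.2 = true ∧ validPi x.2 = true
  | [], [], _, x, hx => by simp at hx
  | w :: ws, l :: ls, h, x, hx => by
    rw [compatL, Bool.and_eq_true, Bool.and_eq_true] at h
    rw [List.zip_cons_cons, List.mem_cons] at hx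
    rcases hx with rfl | hx
    · exact ⟨h.1.1, h.1.2⟩
    · exact compatL_mem ws ls h.2 x hx
  | [], _ :: _, h, _, _ => by simp [compatL] at h
  | _ :: _, [], h, _, _ => by simp [compatL] at h

theorem compatL_len : ∀ (ws ls : List (List ℕ)), compatL ws ls = true → ws.length = ls.length
  | [], [], _ => rfl
  | w :: ws, l :: ls, h => by
    rw [compatL, Bool.and_eq_true] at h
    rw [List.length_cons, List.length_cons, compatL_len ws ls h.2]
  | [], _ :: _, h => by simp [compatL] at h
  | _ :: _, [], h => by simp [compatL] at h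

theorem exists_zip_of_mem {ws ls : List (List ℕ)} (hlen : ws.length = ls.length) {w : List ℕ}
    (hw : w ∈ ws) : ∃ l, (w, l) ∈ List.zip ws ls := by
  obtain ⟨n, hn, rfl⟩ := List.getElem_of_mem hw
  refine ⟨ls[n]'(by rw [← hlen]; exact hn), ?_⟩
  have h1 : (List.zip ws ls)[n]'(by rw [List.length_zip, ← hlen, min_self]; exact hn) =
      (ws[n], ls[n]'(by rw [← hlen]; exact hn)) := List.getElem_zip
  rw [← h1]
  exact List.getElem_mem _

/-! ### the centraliser -/

/-- the centraliser of the involution -/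
abbrev Ct : Subgroup ↥P := Subgroup.centralizer ({t} : Set ↥P)

theorem card_Ct : Nat.card ↥Ct = 40320 := by
  apply le_antisymm _ card_C_ge
  have h := ncard_isConj t
  rw [card_P] at h
  have hsub : (↑invs.toFinset : Set ↥P) ⊆ {a | IsConj t a} := by
    intro x hx
    rw [Finset.mem_coe, List.mem_toFinset] at hx
    obtain ⟨w, -, rfl⟩ := List.mem_map.mp hx
    rw [Set.mem_ofPred_eq, gw_conjW, isConj_iff]
    exact ⟨gw w, by rw [mul_assoc]; rfl⟩
  have hge : 22275 ≤ {a : ↥P | IsConj t a}.ncard := by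
    have := Set.ncard_le_ncard hsub (Set.toFinite _)
    rw [Set.ncard_coe_finset, List.toFinset_card_of_nodup invs_nodup, invs_length] at this
    exact this
  by_contra hlt
  push Not at hlt
  have : 22275 * 40321 ≤ {a : ↥P | IsConj t a}.ncard * Nat.card ↥Ct := Nat.mul_le_mul hge hlt
  rw [h] at this
  norm_num [NMcL] at this

/-- the three levels of the chain in the group -/
def lvCg : List (Fin 275 × List ↥P) :=
  [(fpt 1, LC1.map gw), (fpt 0, LC2.map gw), (fpt 2, LC3.map gw)]

theorem lvCg_eq : lvC.map toLvl = lvCg := by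
  rw [lvC_eq]
  rfl

theorem chainSet_eq : chainSet (⊥ : Subgroup ↥P) lvCg = (Ct : Set ↥P) := by
  have h1 := chainSet_card (⊥ : Subgroup ↥P) (lvC.map toLvl) (chainB_sound lvC chainC)
    (fun q _ s hs => by rw [Subgroup.mem_bot.mp hs, one_smul])
  have h2 : ((lvC.map toLvl).map fun q => q.2.length) = lvC.map fun q => q.2.length := by
    rw [List.map_map]
    apply List.map_congr_left
    intro q _
    show (q.2.map gw).length = q.2.length
    rw [List.length_map]
  rw [h2, prodC, Subgroup.card_bot, mul_one, lvCg_eq] at h1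
  have h3 := chainSet_subset (⊥ : Subgroup ↥P) Ct bot_le (lvC.map toLvl) lvC_mem
  rw [lvCg_eq] at h3
  apply Set.eq_of_subset_of_ncard_le h3 _ (Set.toFinite _)
  have : ((Ct : Subgroup ↥P) : Set ↥P).ncard = 40320 := by
    rw [← Nat.card_coe_set_eq]
    exact card_Ct
  rw [this]
  exact h1

/-- every element of the centraliser is a product of three words of the chain -/
theorem exists_words {c : ↥P} (hc : c ∈ Ct) :
    ∃ a ∈ List.zip LC1 PC1, ∃ b ∈ List.zip LC2 PC2, ∃ d ∈ List.zip LC3 PC3,
      c = gw (a.1 ++ (b.1 ++ d.1)) := by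
  have h : c ∈ chainSet (⊥ : Subgroup ↥P) lvCg := by
    rw [chainSet_eq]
    exact hc
  obtain ⟨g1, hg1, m1, ⟨g2, hg2, m2, ⟨g3, hg3, m3, hm3, rfl⟩, rfl⟩, rfl⟩ := h
  have hm3' : m3 = 1 := Subgroup.mem_bot.mp hm3
  obtain ⟨w1, hw1, rfl⟩ := List.mem_map.mp hg1
  obtain ⟨w2, hw2, rfl⟩ := List.mem_map.mp hg2
  obtain ⟨w3, hw3, rfl⟩ := List.mem_map.mp hg3
  obtain ⟨l1, hl1⟩ := exists_zip_of_mem (compatL_len _ _ compat1) hw1
  obtain ⟨l2, hl2⟩ := exists_zip_of_mem (compatL_len _ _ compat2) hw2
  obtain ⟨l3, hl3⟩ := exists_zip_of_mem (compatL_len _ _ compat3) hw3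
  refine ⟨(w1, l1), hl1, (w2, l2), hl2, (w3, l3), hl3, ?_⟩
  rw [hm3', mul_one, gw_append, gw_append]

theorem pil_compL (p q : List ℕ) {i : ℕ} (hi : i < q.length) :
    pil (compL p q) i = pil p (pil q i) := by
  unfold compL pil
  rw [List.getD_eq_getElem _ _ (by rw [List.length_map]; exact hi), List.getElem_map,
    List.getD_eq_getElem _ _ hi]

theorem validPi_length {l : List ℕ} (h : validPi l = true) : l.length = 8 := by
  unfold validPi at h
  simp only [Bool.and_eq_true, beq_iff_eq] at h
  exact h.1.1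

/-- the permutation of a product of three words -/
theorem compat_words {a b d : List ℕ × List ℕ} (ha : a ∈ List.zip LC1 PC1)
    (hb : b ∈ List.zip LC2 PC2) (hd : d ∈ List.zip LC3 PC3) :
    ∃ π : Equiv.Perm (Fin 8), Compat (gw (a.1 ++ (b.1 ++ d.1))) π ∧
      (π = 1 → isIdL (compL a.2 (compL b.2 d.2)) = true) := by
  obtain ⟨ha1, ha2⟩ := compatL_mem _ _ compat1 a ha
  obtain ⟨hb1, hb2⟩ := compatL_mem _ _ compat2 b hb
  obtain ⟨hd1, hd2⟩ := compatL_mem _ _ compat3 d hd
  obtain ⟨π1, hπ1, hc1⟩ := compat_of_chk ha1 ha2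
  obtain ⟨π2, hπ2, hc2⟩ := compat_of_chk hb1 hb2
  obtain ⟨π3, hπ3, hc3⟩ := compat_of_chk hd1 hd2
  refine ⟨π1 * (π2 * π3), ?_, ?_⟩
  · rw [gw_append, gw_append]
    exact hc1.mul (hc2.mul hc3)
  · intro h1
    have hlen3 := validPi_length hd2
    have hlen2 := validPi_length hb2
    have hlenc : (compL b.2 d.2).length = 8 := by
      unfold compL
      rw [List.length_map, hlen3]
    have hlenc' : (compL a.2 (compL b.2 d.2)).length = 8 := by
      unfold compL
      rw [List.length_map, List.length_map, hlen3]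
    have hval : ∀ i : Fin 8, pil (compL a.2 (compL b.2 d.2)) i.val = i.val := by
      intro i
      rw [pil_compL _ _ (by rw [hlenc]; exact i.isLt), pil_compL _ _ (by rw [hlen3]; exact i.isLt),
        ← hπ3, ← hπ2, ← hπ1]
      have := congrArg (fun σ : Equiv.Perm (Fin 8) => (σ i).val) h1
      simpa using this
    unfold isIdL
    rw [beq_iff_eq]
    apply List.ext_getElem
    · rw [hlenc']
      rfl
    · intro n h1' h2'
      have hn : n < 8 := by rw [hlenc'] at h1'; exact h1'
      have h3 := hval ⟨n, hn⟩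
      unfold pil at h3
      rw [List.getD_eq_getElem _ _ h1'] at h3
      rw [h3]
      have h4 : ∀ m (hm : m < 8), ([0, 1, 2, 3, 4, 5, 6, 7] : List ℕ)[m]'(by simpa using hm) = m := by
        decide
      exact (h4 n hn).symm

theorem exists_compat {c : ↥P} (hc : c ∈ Ct) : ∃ π : Equiv.Perm (Fin 8), Compat c π := by
  obtain ⟨a, ha, b, hb, d, hd, rfl⟩ := exists_words hc
  obtain ⟨π, hπ, -⟩ := compat_words ha hb hd
  exact ⟨π, hπ⟩

/-- the action of the centraliser on the 8 objects -/
def rho : ↥Ct →* Equiv.Perm (Fin 8) :=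
  MonoidHom.mk' (fun c => Classical.choose (exists_compat c.2)) (by
    intro c c'
    have h1 := Classical.choose_spec (exists_compat c.2)
    have h2 := Classical.choose_spec (exists_compat c'.2)
    have h3 := Classical.choose_spec (exists_compat (c * c').2)
    exact Compat.unique h3 (h1.mul h2))

theorem rho_compat (c : ↥Ct) : Compat c.val (rho c) := Classical.choose_spec (exists_compat c.2)

theorem t_mem_Ct : t ∈ Ct := Subgroup.mem_centralizer_singleton_iff.mpr rfl

/-- the involution as an element of its centraliser -/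
def tC : ↥Ct := ⟨t, t_mem_Ct⟩

theorem tC_ne : tC ≠ 1 := fun h => t_ne (congrArg Subtype.val h)

theorem t_fix (a : ℕ) (ha : a < 35) : t • fpt (fx a) = fpt (fx a) := by
  apply Fin.ext
  show (gw tw • fpt (fx a)).val = _
  rw [gw_smul_val, fpt_val (fx_lt ha)]
  have h := fxT
  rw [allLt_iff] at h
  exact Nat.eq_of_beq_eq_true (h a ha)

theorem rho_tC : rho tC = 1 := Compat.unique (rho_compat tC) (Compat.one_of_fix t_fix)

theorem mem_ker_rho (c : ↥Ct) (hc : c ∈ rho.ker) : c = 1 ∨ c = tC := by
  obtain ⟨a, ha, b, hb, d, hd, hcw⟩ := exists_words c.2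
  obtain ⟨π, hπ, hid⟩ := compat_words ha hb hd
  have h1 : rho c = π := by
    apply Compat.unique (rho_compat c)
    rw [hcw]
    exact hπ
  have h2 : π = 1 := by rw [← h1]; exact MonoidHom.mem_ker.mp hc
  have h3 := hid h2
  have hk := kerC
  unfold kerB at hk
  rw [List.all_eq_true] at hk
  have hk := hk a ha
  rw [List.all_eq_true] at hk
  have hk := hk b hb
  rw [List.all_eq_true] at hk
  have hk := hk d hd
  rw [h3] at hk
  simp only [Bool.not_true, Bool.false_or, Bool.or_eq_true] at hk
  rcases hk with hk | hk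
  · left
    apply Subtype.ext
    rw [hcw, (sigEq_iff _ _).mp hk]
    rfl
  · right
    apply Subtype.ext
    rw [hcw, (sigEq_iff _ _).mp hk]
    rfl

theorem ker_rho_eq : (rho.ker : Set ↥Ct) = {1, tC} := by
  ext c
  constructor
  · intro hc
    rcases mem_ker_rho c hc with h | h
    · exact Or.inl h
    · exact Or.inr h
  · rintro (rfl | rfl)
    · exact rho.ker.one_mem
    · exact MonoidHom.mem_ker.mpr rho_tC

theorem card_ker_rho : Nat.card ↥rho.ker = 2 := by
  show Nat.card ((rho.ker : Set ↥Ct)) = 2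
  rw [Nat.card_coe_set_eq, ker_rho_eq, Set.ncard_pair (Ne.symm tC_ne)]

instance finite_Ct : Finite ↥Ct := inferInstance

theorem range_rho : rho.range = alternatingGroup (Fin 8) := by
  apply Equiv.Perm.eq_alternatingGroup_of_index_eq_two
  have h1 : Nat.card ↥Ct = Nat.card (↥Ct ⧸ rho.ker) * Nat.card ↥rho.ker :=
    Subgroup.card_eq_card_quotient_mul_card_subgroup rho.ker
  have h2 : Nat.card (↥Ct ⧸ rho.ker) = Nat.card ↥rho.range :=
    Nat.card_congr (QuotientGroup.quotientKerEquivRange rho).toEquiv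
  rw [card_Ct, card_ker_rho, h2] at h1
  have h3 : Nat.card ↥rho.range = 20160 := by omega
  have h4 := rho.range.index_mul_card
  have h5 : Nat.card (Equiv.Perm (Fin 8)) = 40320 := by
    rw [Nat.card_eq_fintype_card, Fintype.card_perm, Fintype.card_fin]
    decide
  rw [h3, h5] at h4
  have h6 : rho.range.index * 20160 = 2 * 20160 := h4
  exact Nat.eq_of_mul_eq_mul_right (by norm_num) h6

theorem center_Ct : Subgroup.center ↥Ct = rho.ker := by
  ext z
  constructor
  · intro hz
    rw [MonoidHom.mem_ker]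
    have hmem : rho z ∈ alternatingGroup (Fin 8) := by
      rw [← range_rho]
      exact ⟨z, rfl⟩
    have hcen : (⟨rho z, hmem⟩ : ↥(alternatingGroup (Fin 8))) ∈
        Subgroup.center ↥(alternatingGroup (Fin 8)) := by
      rw [Subgroup.mem_center_iff]
      rintro ⟨g, hg⟩
      rw [← range_rho] at hg
      obtain ⟨c, rfl⟩ := hg
      apply Subtype.ext
      show rho c * rho z = rho z * rho c
      rw [← map_mul, ← map_mul, Subgroup.mem_center_iff.mp hz c]
    rw [alternatingGroup.center_eq_bot (by rw [Nat.card_eq_fintype_card, Fintype.card_fin]; norm_num),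
      Subgroup.mem_bot] at hcen
    exact congrArg Subtype.val hcen
  · intro hz
    rcases mem_ker_rho z hz with rfl | rfl
    · exact Subgroup.one_mem _
    · rw [Subgroup.mem_center_iff]
      intro c
      apply Subtype.ext
      show c.val * t = t * c.val
      exact Subgroup.mem_centralizer_singleton_iff.mp c.2

/-- an element of the centraliser whose square is the involution -/
def xC : ↥Ct := ⟨gw xW, by
  rw [Subgroup.mem_centralizer_singleton_iff]
  have h : gw xW * gw xW = t := by
    rw [← gw_append]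
    exact (sigEq_iff _ _).mp sqX
  rw [← h, mul_assoc]⟩

theorem xC_sq : xC * xC = tC := by
  apply Subtype.ext
  show gw xW * gw xW = t
  rw [← gw_append]
  exact (sigEq_iff _ _).mp sqX

theorem nonsplit_Ct : Cfsg.IsNonsplitDoubleCover ↥Ct ↥(alternatingGroup (Fin 8)) := by
  refine ⟨?_, ?_, ?_⟩
  · rw [center_Ct]
    exact card_ker_rho
  · exact ⟨(QuotientGroup.quotientMulEquivOfEq center_Ct).trans
      ((QuotientGroup.quotientKerEquivRange rho).trans (MulEquiv.subgroupCongr range_rho))⟩
  · intro L hL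
    obtain ⟨⟨⟨z, hz⟩, ⟨l, hl⟩⟩, hzl⟩ := hL.2 xC
    have hzl' : z * l = xC := hzl
    have hzc := Subgroup.mem_center_iff.mp hz
    have hz2 : z * z = 1 := by
      rw [center_Ct] at hz
      rcases mem_ker_rho z hz with rfl | rfl
      · exact one_mul 1
      · exact Subtype.ext t_sq
    have hl2 : l * l = tC := by
      rw [← xC_sq, ← hzl']
      calc l * l = (z * z) * (l * l) := by rw [hz2, one_mul]
        _ = z * (z * l) * l := by group
        _ = z * (l * z) * l := by rw [hzc l]
        _ = z * l * (z * l) := by group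
    have htL : tC ∈ L := by
      rw [← hl2]
      exact L.mul_mem hl hl
    have htZ : tC ∈ Subgroup.center ↥Ct := by
      rw [center_Ct]
      exact MonoidHom.mem_ker.mpr rho_tC
    have hdisj := hL.disjoint
    rw [Subgroup.disjoint_def] at hdisj
    exact tC_ne (hdisj htZ htL)

end

/-! ### transport along an isomorphism -/

theorem nonsplit_of_equiv {H H' K : Type*} [Group H] [Group H'] [Group K] (e : H ≃* H')
    (h : Cfsg.IsNonsplitDoubleCover H K) : Cfsg.IsNonsplitDoubleCover H' K := by
  obtain ⟨h1, ⟨f⟩, h3⟩ := h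
  have hmap : (Subgroup.center H).map e.toMonoidHom = Subgroup.center H' := by
    ext x
    constructor
    · rintro ⟨z, hz, rfl⟩
      rw [Subgroup.mem_center_iff]
      intro y
      obtain ⟨y', rfl⟩ := e.surjective y
      show e y' * e z = e z * e y'
      rw [← map_mul, ← map_mul, Subgroup.mem_center_iff.mp hz y']
    · intro hx
      refine ⟨e.symm x, ?_, e.apply_symm_apply x⟩
      show e.symm x ∈ Subgroup.center H
      rw [Subgroup.mem_center_iff]
      intro y
      apply e.injective
      rw [map_mul, map_mul, e.apply_symm_apply]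
      exact Subgroup.mem_center_iff.mp hx (e y)
  refine ⟨?_, ?_, ?_⟩
  · rw [← hmap, Subgroup.card_map_of_injective e.injective]
    exact h1
  · exact ⟨(QuotientGroup.congr (Subgroup.center H) (Subgroup.center H') e hmap).symm.trans f⟩
  · intro L' hL'
    apply h3 (L'.comap e.toMonoidHom)
    rw [Subgroup.isComplement'_def, Subgroup.isComplement_iff_existsUnique] at hL' ⊢
    intro g
    obtain ⟨⟨⟨z', hz'⟩, ⟨l', hl'⟩⟩, hx, huniq⟩ := hL' (e g)
    have hx' : z' * l' = e g := hx
    have hz : e.symm z' ∈ Subgroup.center H := by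
      rw [← hmap] at hz'
      obtain ⟨z, hz, rfl⟩ := hz'
      rw [MulEquiv.coe_toMonoidHom, e.symm_apply_apply]
      exact hz
    have hl : e.symm l' ∈ L'.comap e.toMonoidHom := by
      rw [Subgroup.mem_comap, MulEquiv.coe_toMonoidHom, e.apply_symm_apply]
      exact hl'
    refine ⟨⟨⟨e.symm z', hz⟩, ⟨e.symm l', hl⟩⟩, ?_, ?_⟩
    · show e.symm z' * e.symm l' = g
      rw [← map_mul, hx', e.symm_apply_apply]
    · rintro ⟨⟨z, hz2⟩, ⟨l, hl2⟩⟩ hzl
      have hzl' : z * l = g := hzl
      have hz3 : e z ∈ Subgroup.center H' := by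
        rw [← hmap]
        exact ⟨z, hz2, rfl⟩
      have hl3 : e l ∈ L' := hl2
      have := huniq ⟨⟨e z, hz3⟩, ⟨e l, hl3⟩⟩ (by
        show e z * e l = e g
        rw [← map_mul, hzl'])
      have h4 : e z = z' := congrArg (fun p : ↥(Subgroup.center H') × ↥L' => (p.1 : H')) this
      have h5 : e l = l' := congrArg (fun p : ↥(Subgroup.center H') × ↥L' => (p.2 : H')) this
      apply Prod.ext
      · apply Subtype.ext
        show z = e.symm z'
        rw [← h4, e.symm_apply_apply]
      · apply Subtype.ext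
        show l = e.symm l'
        rw [← h5, e.symm_apply_apply]

noncomputable section

/-- the involution in the McLaughlin group of the definitions -/
def tM : ↥Cfsg.Spor.McL := mclIso.symm t

theorem orderOf_tM : orderOf tM = 2 := by
  unfold tM
  rw [MulEquiv.orderOf_eq]
  exact orderOf_t

theorem centralizer_tM :
    (Subgroup.centralizer ({tM} : Set ↥Cfsg.Spor.McL)).map mclIso.toMonoidHom = Ct := by
  ext x
  rw [Subgroup.mem_map_equiv, Subgroup.mem_centralizer_singleton_iff,
    Subgroup.mem_centralizer_singleton_iff]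
  unfold tM
  constructor
  · intro h
    have h1 := congrArg mclIso h
    rw [map_mul, map_mul, mclIso.apply_symm_apply, mclIso.apply_symm_apply] at h1
    exact h1
  · intro h
    apply mclIso.injective
    rw [map_mul, map_mul, mclIso.apply_symm_apply, mclIso.apply_symm_apply]
    exact h

/-- the McLaughlin group has one class of involutions, and the centraliser of an involution is a non-split double
cover of the alternating group of degree 8 -/
theorem involutions_McL :
    (∀ x y : ↥Cfsg.Spor.McL, orderOf x = 2 → orderOf y = 2 → IsConj x y) ∧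
      ∃ t : ↥Cfsg.Spor.McL, orderOf t = 2 ∧
        Cfsg.IsNonsplitDoubleCover ↥(Subgroup.centralizer ({t} : Set ↥Cfsg.Spor.McL))
          ↥(alternatingGroup (Fin 8)) := by
  constructor
  · intro x y hx hy
    have h1 := P_involutions_conj (mclIso x) (mclIso y) (by rw [MulEquiv.orderOf_eq]; exact hx)
      (by rw [MulEquiv.orderOf_eq]; exact hy)
    obtain ⟨c, hc⟩ := isConj_iff.mp h1
    refine isConj_iff.mpr ⟨mclIso.symm c, ?_⟩
    apply mclIso.injective
    rw [map_mul, map_mul, map_inv, mclIso.apply_symm_apply]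
    exact hc
  · refine ⟨tM, orderOf_tM, ?_⟩
    have e1 : ↥(Subgroup.centralizer ({tM} : Set ↥Cfsg.Spor.McL)) ≃*
        ↥((Subgroup.centralizer ({tM} : Set ↥Cfsg.Spor.McL)).map mclIso.toMonoidHom) :=
      mclIso.subgroupMap _
    have e2 : ↥((Subgroup.centralizer ({tM} : Set ↥Cfsg.Spor.McL)).map mclIso.toMonoidHom) ≃* ↥Ct :=
      MulEquiv.subgroupCongr centralizer_tM
    exact nonsplit_of_equiv (e1.trans e2).symm nonsplit_Ct

end

end Cfsg.Agent.Lib.Helper4.McL
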