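import Cfsg.Agent.Lib.Helper14.LeechMono
import Cfsg.Agent.Lib.Helper14.LeechXi
import Cfsg.Agent.Lib.Helper3.Golay.TblPerm

set_option autoImplicit false

/-!
# Computing with explicit automorphisms of the Leech lattice

Vectors are lists of 24 integers (indexed by `idx`); the monomial maps of helper14 (`mono`) and the
map `ξ` (`xiPerm`) are computed on lists.
-/

namespace Cfsg.Agent.Lib.Helper4.McL

open Cfsg
open Cfsg.Agent.Lib.Helper3.Golay
open Cfsg.Agent.Lib.Helper14.LeechXi
open Cfsg.Agent.Lib.Helper14.LeechMono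

/-- the vector with the given list of coordinates -/
def vecOf (l : List ℤ) : GolayPt → ℤ := fun p => l.getD (idx p) 0

theorem vecOf_pt (l : List ℤ) {i : ℕ} (hi : i < 24) : vecOf l (pt i) = l.getD i 0 := by
  unfold vecOf
  rw [idx_pt hi]

/-- a list of length 24 is determined by its vector -/
theorem eq_of_vecOf_eq {l l' : List ℤ} (hl : l.length = 24) (hl' : l'.length = 24)
    (h : vecOf l = vecOf l') : l = l' := by
  apply List.ext_getElem (hl.trans hl'.symm)
  intro i h1 h2
  have hi : i < 24 := hl ▸ h1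
  have := congrFun h (pt i)
  rw [vecOf_pt l hi, vecOf_pt l' hi, List.getD_eq_getElem _ _ h1, List.getD_eq_getElem _ _ h2] at this
  exact this

/-- the tabulated function -/
def tabL (f : ℕ → ℤ) : List ℤ := (List.range 24).map f

theorem vecOf_tabL (f : ℕ → ℤ) (p : GolayPt) : vecOf (tabL f) p = f (idx p) := by
  unfold vecOf tabL
  have h := idx_lt p
  rw [List.getD_eq_getElem _ _ (by rw [List.length_map, List.length_range]; exact h)]
  rw [List.getElem_map, List.getElem_range]

theorem length_tabL (f : ℕ → ℤ) : (tabL f).length = 24 := by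
  unfold tabL
  rw [List.length_map, List.length_range]

/-! ### signed permutations -/

/-- the signed permutation on lists: `T'` is the table of the inverse permutation, `c` the mask of the sign changes -/
def spL (T' : List ℕ) (c : ℕ) (l : List ℤ) : List ℤ :=
  tabL fun i => if c.testBit i then -(l.getD (T'.getD i 0) 0) else l.getD (T'.getD i 0) 0

theorem signedPerm_vecOf (T T' : List ℕ) (h : okInv T T' = true) (h' : okInv T' T = true) (c : ℕ)
    (l : List ℤ) :
    signedPerm (permOfTbl T T' h h') (bitSet c) (vecOf l) = vecOf (spL T' c l) := by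
  funext p
  rw [signedPerm_apply]
  unfold spL
  rw [vecOf_tabL]
  have h1 : (permOfTbl T T' h h').symm p = pt (T'.getD (idx p) 0) := rfl
  have h2 : T'.getD (idx p) 0 < 24 := ((okInv_spec h).2 (idx p) (idx_lt p)).1
  rw [h1, vecOf_pt l h2]
  by_cases hc : c.testBit (idx p) = true
  · rw [if_pos (mem_bitSet.mpr hc), if_pos hc]
  · rw [if_neg (fun hh => hc (mem_bitSet.mp hh)), if_neg hc]

/-! ### the map `ξ` -/

theorem sum_golayPt (f : GolayPt → ℤ) : ∑ p, f p = ∑ i ∈ Finset.range 24, f (pt i) := by
  rw [← Fin.sum_univ_eq_sum_range (fun i => f (pt i)) 24]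
  exact Fintype.sum_equiv ptEquiv _ _ (fun p => by
    show f p = f (pt (idx p))
    rw [pt_idx])

theorem list_sum_range (f : ℕ → ℤ) (n : ℕ) :
    ((List.range n).map f).sum = ∑ i ∈ Finset.range n, f i := by
  induction n with
  | zero => rfl
  | succ n ih =>
    rw [List.range_succ, List.map_append, List.sum_append, ih, Finset.sum_range_succ]
    simp

/-- the sum over a tetrad, on lists -/
def tsL (l : List ℤ) (t : ℕ) : ℤ :=
  ((List.range 24).map fun k => if tetL.getD k 0 = t then l.getD k 0 else 0).sum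

theorem tetSum_vecOf (l : List ℤ) (j : GolayPt) : tetSum (vecOf l) j = tsL l (tet j) := by
  unfold tetSum tsL
  rw [sum_golayPt, list_sum_range]
  apply Finset.sum_congr rfl
  intro i hi
  have hi' : i < 24 := Finset.mem_range.mp hi
  have h1 : tet (pt i) = tetL.getD i 0 := by
    unfold tet
    rw [idx_pt hi']
  rw [h1, vecOf_pt l hi']

/-- the map `ξ` on lists -/
def xiL (l : List ℤ) : List ℤ :=
  tabL fun j => (if tetL.getD j 0 = 0 then -1 else 1) * (l.getD j 0 - tsL l (tetL.getD j 0) / 2)

theorem xi_vecOf (l : List ℤ) : xi (vecOf l) = vecOf (xiL l) := by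
  funext j
  unfold xiL
  rw [vecOf_tabL]
  show sgn j * (vecOf l j - tetSum (vecOf l) j / 2) = _
  rw [tetSum_vecOf]
  rfl

/-! ### norms and inner products -/

theorem sqNorm_vecOf (l : List ℤ) :
    sqNorm (vecOf l) = ((List.range 24).map fun i => l.getD i 0 ^ 2).sum := by
  unfold sqNorm
  rw [sum_golayPt, list_sum_range]
  apply Finset.sum_congr rfl
  intro i hi
  rw [vecOf_pt l (Finset.mem_range.mp hi)]

theorem dotInt_vecOf (l l' : List ℤ) :
    dotInt (vecOf l) (vecOf l') = ((List.range 24).map fun i => l.getD i 0 * l'.getD i 0).sum := by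
  unfold dotInt
  rw [sum_golayPt, list_sum_range]
  apply Finset.sum_congr rfl
  intro i hi
  rw [vecOf_pt l (Finset.mem_range.mp hi), vecOf_pt l' (Finset.mem_range.mp hi)]

/-! ### the monomial maps from tables -/

/-- the monomial map with permutation table `T` and sign mask `c` -/
noncomputable def monoT (T T' : List ℕ) (h : okInv T T' = true) (h' : okInv T' T = true)
    (hcode : codeOK T = true) (c : ℕ) (hc : c < 2 ^ 24) (hcc : codeMask (c % 4096) = c) :
    Equiv.Perm ↥leechLattice :=
  mono ⟨permOfTbl T T' h h', (hasTbl_permOfTbl T T' h h').mem_M24 hcode⟩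
    ⟨wordOf c, (wordOf_mem_iff hc).mpr hcc⟩

theorem monoT_mem (T T' : List ℕ) (h : okInv T T' = true) (h' : okInv T' T = true)
    (hcode : codeOK T = true) (c : ℕ) (hc : c < 2 ^ 24) (hcc : codeMask (c % 4096) = c) :
    monoT T T' h h' hcode c hc hcc ∈ Co0 := mono_mem_Co0 _ _

theorem monoT_apply (T T' : List ℕ) (h : okInv T T' = true) (h' : okInv T' T = true)
    (hcode : codeOK T = true) (c : ℕ) (hc : c < 2 ^ 24) (hcc : codeMask (c % 4096) = c)
    (v : ↥leechLattice) (l : List ℤ) (hv : (v : GolayPt → ℤ) = vecOf l) :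
    ((monoT T T' h h' hcode c hc hcc v : ↥leechLattice) : GolayPt → ℤ) = vecOf (spL T' c l) := by
  unfold monoT
  rw [mono_apply, hv]
  show signedPerm (permOfTbl T T' h h') (support₂ (wordOf c)) (vecOf l) = _
  rw [support_wordOf, signedPerm_vecOf]

theorem xiPerm_apply' (v : ↥leechLattice) (l : List ℤ) (hv : (v : GolayPt → ℤ) = vecOf l) :
    ((xiPerm v : ↥leechLattice) : GolayPt → ℤ) = vecOf (xiL l) := by
  rw [xiPerm_apply, hv, xi_vecOf]

end Cfsg.Agent.Lib.Helper4.McL
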