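import Cfsg.Agent.Lib.Helper4.McL.OBasic
import Cfsg.Agent.Lib.Helper4.McL.OData

set_option autoImplicit false

/-!
# Checks on the words of a Sylow 2-subgroup and of the centraliser of the involution of the McLaughlin group
-/

namespace Cfsg.Agent.Lib.Helper4.McL

open Cfsg.Agent.Lib.Helper10.SX

noncomputable section

/-- the multiplication table of the Sylow 2-subgroup -/
def mtS (i j : ℕ) : ℕ := (smt.getD i []).getD j 0

/-- the check of the rows `lo, …, lo + 15` of the table -/
def rowsB (lo : ℕ) : Bool :=
  allLt 16 fun k => allLt 128 fun j =>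
    Nat.blt (mtS (lo + k) j) 128 && sigEq (wd SWs (lo + k) ++ wd SWs j) (wd SWs (mtS (lo + k) j))

set_option maxRecDepth 1000000 in
theorem rowsS0 : rowsB 0 = true := by
  decide +kernel

set_option maxRecDepth 1000000 in
theorem rowsS1 : rowsB 16 = true := by
  decide +kernel

set_option maxRecDepth 1000000 in
theorem rowsS2 : rowsB 32 = true := by
  decide +kernel

set_option maxRecDepth 1000000 in
theorem rowsS3 : rowsB 48 = true := by
  decide +kernel

set_option maxRecDepth 1000000 in
theorem rowsS4 : rowsB 64 = true := by
  decide +kernel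

set_option maxRecDepth 1000000 in
theorem rowsS5 : rowsB 80 = true := by
  decide +kernel

set_option maxRecDepth 1000000 in
theorem rowsS6 : rowsB 96 = true := by
  decide +kernel

set_option maxRecDepth 1000000 in
theorem rowsS7 : rowsB 112 = true := by
  decide +kernel

theorem tableS : tableB 128 SWs mtS = true := by
  unfold tableB
  rw [allLt_iff]
  intro i hi
  have key : ∀ lo : ℕ, rowsB lo = true → lo ≤ i → i < lo + 16 →
      (allLt 128 fun j =>
        Nat.blt (mtS i j) 128 && sigEq (wd SWs i ++ wd SWs j) (wd SWs (mtS i j))) = true := by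
    intro lo h h1 h2
    unfold rowsB at h
    rw [allLt_iff] at h
    have h3 := h (i - lo) (by omega)
    have e : lo + (i - lo) = i := by omega
    rw [e] at h3
    exact h3
  have hcases : i < 16 ∨ (16 ≤ i ∧ i < 32) ∨ (32 ≤ i ∧ i < 48) ∨ (48 ≤ i ∧ i < 64) ∨
      (64 ≤ i ∧ i < 80) ∨ (80 ≤ i ∧ i < 96) ∨ (96 ≤ i ∧ i < 112) ∨ (112 ≤ i ∧ i < 128) := by omega
  rcases hcases with h | h | h | h | h | h | h | h
  · exact key 0 rowsS0 (by omega) (by omega)
  · exact key 16 rowsS1 (by omega) (by omega)
  · exact key 32 rowsS2 (by omega) (by omega)
  · exact key 48 rowsS3 (by omega) (by omega)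
  · exact key 64 rowsS4 (by omega) (by omega)
  · exact key 80 rowsS5 (by omega) (by omega)
  · exact key 96 rowsS6 (by omega) (by omega)
  · exact key 112 rowsS7 (by omega) (by omega)

set_option maxRecDepth 1000000 in
theorem distinctS : distinctB 128 SWs = true := by
  decide +kernel

/-- each of the 128 words is trivial, or not an involution, or a conjugate of the involution -/
def involB : Bool :=
  allLt 128 fun i => Nat.beq i 0 || !(sigEq (wd SWs i ++ wd SWs i) []) ||
    sigEq (conjW (wd SCs i)) (wd SWs i)

set_option maxRecDepth 1000000 in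
theorem involS : involB = true := by
  decide +kernel

/-- the words of the chain commute with the involution -/
def centB : Bool := lvC.all fun q => q.2.all fun w => sigEq (w ++ tw) (tw ++ w)

set_option maxRecDepth 1000000 in
theorem centC : centB = true := by
  decide +kernel

set_option maxRecDepth 1000000 in
theorem chainC : chainB lvC = true := by
  decide +kernel

set_option maxRecDepth 100000 in
theorem prodC : (lvC.map fun q => q.2.length).prod = 40320 := by
  decide +kernel

end

end Cfsg.Agent.Lib.Helper4.McL
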