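import Cfsg.Agent.Lib.Helper4.McL.Action
import Cfsg.Agent.Lib.Helper4.McL.Chain
import Cfsg.Agent.Lib.Helper10.SXRigid

set_option autoImplicit false

/-!
# The McLaughlin group on 275 points: words, order, rigidity

`P` is the group generated by the two packed permutations `cA`, `cB` of the 275 points.  A chain of partial
transversals shows `898128000 ≤ |P|`; since `P` lies in the image of the McLaughlin group of the definitions
(of order `898128000` by helper14), the group of the definitions is isomorphic to `P`, and an element of `P`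
is determined by the images of the five base points `0, 1, 2, 3, 4`.
-/

namespace Cfsg.Agent.Lib.Helper4.McL

open Cfsg
open Cfsg.Agent.Lib.Helper10.SX

noncomputable section

/-- the group on 275 points -/
def P : Subgroup (Equiv.Perm (Fin 275)) := grp 275 [cA, cB]

/-- the four letters: `A`, its inverse, `B`, its inverse -/
def ltr (k : ℕ) : ℕ := [cA, cAi, cB, cBi].getD k cA

/-- the inverse letter -/
def invl : ℕ → ℕ
  | 0 => 1
  | 1 => 0
  | 2 => 3
  | 3 => 2
  | _ => 1

theorem mem_A : cA ∈ [cA, cB] := List.mem_cons_self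

theorem mem_B : cB ∈ [cA, cB] := List.mem_cons_of_mem _ List.mem_cons_self

theorem ltr_ok : ∀ k : ℕ, Valid 275 (ltr k) ∧ perm 275 (ltr k) ∈ P ∧
    perm 275 (ltr (invl k)) = (perm 275 (ltr k))⁻¹
  | 0 => ⟨valid_A, perm_mem_grp mem_A, perm_Ai⟩
  | 1 => ⟨valid_Ai, by
      show perm 275 cAi ∈ P
      rw [perm_Ai]; exact P.inv_mem (perm_mem_grp mem_A), by
      show perm 275 cA = (perm 275 cAi)⁻¹
      rw [perm_Ai, inv_inv]⟩
  | 2 => ⟨valid_B, perm_mem_grp mem_B, perm_Bi⟩
  | 3 => ⟨valid_Bi, by
      show perm 275 cBi ∈ P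
      rw [perm_Bi]; exact P.inv_mem (perm_mem_grp mem_B), by
      show perm 275 cB = (perm 275 cBi)⁻¹
      rw [perm_Bi, inv_inv]⟩
  | (_ + 4) => ⟨valid_A, perm_mem_grp mem_A, perm_Ai⟩

/-- the codes of the letters of a word -/
def codesW (w : List ℕ) : List ℕ := w.map ltr

/-- the permutation of a word (the head of the word is applied last) -/
def pw (w : List ℕ) : Equiv.Perm (Fin 275) := prodL 275 (codesW w)

/-- the image of a point under a word -/
def evW (w : List ℕ) (x : ℕ) : ℕ := evalL 275 (codesW w) x

/-- the inverse word -/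
def winv (w : List ℕ) : List ℕ := (w.map invl).reverse

theorem codesW_valid (w : List ℕ) : ∀ c ∈ codesW w, Valid 275 c := by
  intro c hc
  obtain ⟨k, -, rfl⟩ := List.mem_map.mp hc
  exact (ltr_ok k).1

theorem pw_mem (w : List ℕ) : pw w ∈ P := by
  apply prodL_mem
  intro c hc
  obtain ⟨k, -, rfl⟩ := List.mem_map.mp hc
  exact (ltr_ok k).2.1

theorem pw_nil : pw [] = 1 := rfl

theorem pw_append (w w' : List ℕ) : pw (w ++ w') = pw w * pw w' := by
  unfold pw codesW
  rw [List.map_append, prodL_append]

theorem pw_cons (k : ℕ) (w : List ℕ) : pw (k :: w) = perm 275 (ltr k) * pw w := by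
  unfold pw codesW
  rw [List.map_cons, prodL_cons]

theorem pw_winv (w : List ℕ) : pw (winv w) = (pw w)⁻¹ := by
  induction w with
  | nil => exact inv_one.symm
  | cons k w ih =>
    have : winv (k :: w) = winv w ++ [invl k] := by
      unfold winv
      rw [List.map_cons, List.reverse_cons]
    rw [this, pw_append, ih, pw_cons, pw_cons, pw_nil, mul_one, (ltr_ok k).2.2, mul_inv_rev]

theorem pw_apply_val (w : List ℕ) (i : Fin 275) : (pw w i).val = evW w i.val :=
  prodL_apply_val _ (codesW_valid w) i

/-- the element of the group of a word -/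
def gw (w : List ℕ) : ↥P := ⟨pw w, pw_mem w⟩

theorem gw_nil : gw [] = 1 := rfl

theorem gw_append (w w' : List ℕ) : gw (w ++ w') = gw w * gw w' :=
  Subtype.ext (pw_append w w')

theorem gw_winv (w : List ℕ) : gw (winv w) = (gw w)⁻¹ :=
  Subtype.ext (pw_winv w)

theorem gw_smul_val (w : List ℕ) (i : Fin 275) : (gw w • i).val = evW w i.val :=
  pw_apply_val w i

/-- a point from a number -/
def fpt (b : ℕ) : Fin 275 := ⟨b % 275, Nat.mod_lt _ (by norm_num)⟩

theorem fpt_val {b : ℕ} (hb : b < 275) : (fpt b).val = b := Nat.mod_eq_of_lt hb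

/-! ### the chain -/

/-- the levels of the chain: base points and words -/
def lvls : List (ℕ × List (List ℕ)) := [(0, lvW1), (1, lvW2), (2, lvW3), (3, lvW4), (4, lvW5)]

/-- the check of a chain of words -/
def chainB : List (ℕ × List (List ℕ)) → Bool
  | [] => true
  | q :: rest => decide (q.1 < 275) && noDup (q.2.map fun w => evW w q.1) 0 &&
      (rest.all fun r => r.2.all fun w => evW w q.1 == q.1) && chainB rest

/-- a level of the chain in the group -/
def toLvl (q : ℕ × List (List ℕ)) : Fin 275 × List ↥P := (fpt q.1, q.2.map gw)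

theorem chainB_sound : ∀ lv : List (ℕ × List (List ℕ)), chainB lv = true → ChainOK (lv.map toLvl)
  | [], _ => trivial
  | q :: rest, h => by
    unfold chainB at h
    simp only [Bool.and_eq_true, decide_eq_true_eq, List.all_eq_true, beq_iff_eq] at h
    obtain ⟨⟨⟨hb, hnd⟩, hfix⟩, hrest⟩ := h
    refine ⟨?_, ?_, chainB_sound rest hrest⟩
    · show (((q.2.map gw).map fun g => g • fpt q.1)).Nodup
      apply List.Nodup.of_map Fin.val
      rw [List.map_map, List.map_map]
      have : ((Fin.val ∘ fun g : ↥P => g • fpt q.1) ∘ gw) = fun w => evW w q.1 := by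
        funext w
        show (gw w • fpt q.1).val = _
        rw [gw_smul_val, fpt_val hb]
      rw [this]
      exact (noDup_sound _ _ hnd).1
    · intro r hr g hg
      obtain ⟨r', hr', rfl⟩ := List.mem_map.mp hr
      obtain ⟨w, hw, rfl⟩ := List.mem_map.mp hg
      apply Fin.ext
      show (gw w • fpt q.1).val = _
      rw [gw_smul_val, fpt_val hb]
      exact (hfix r' hr' w hw).trans (fpt_val hb).symm

set_option maxRecDepth 1000000 in
theorem chain_ok : chainB lvls = true := by decide +kernel

set_option maxRecDepth 100000 in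
theorem chain_prod : ((lvls.map toLvl).map fun q => q.2.length).prod = NMcL := by
  have : ((lvls.map toLvl).map fun q => q.2.length) = lvls.map fun q => q.2.length := by
    rw [List.map_map]
    apply List.map_congr_left
    intro q _
    show (q.2.map gw).length = q.2.length
    rw [List.length_map]
  rw [this]
  decide +kernel

/-- the pointwise stabiliser of the base -/
def Sbase : Subgroup ↥P where
  carrier := {g | ∀ b < 5, g • fpt b = fpt b}
  one_mem' := fun b _ => one_smul _ _
  mul_mem' := by
    intro g h hg hh b hb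
    rw [mul_smul, hh b hb, hg b hb]
  inv_mem' := by
    intro g hg b hb
    rw [inv_smul_eq_iff, hg b hb]

theorem Sbase_fix : ∀ q ∈ lvls.map toLvl, ∀ s ∈ Sbase, s • q.1 = q.1 := by
  intro q hq s hs
  obtain ⟨q', hq', rfl⟩ := List.mem_map.mp hq
  have : q'.1 < 5 := by
    unfold lvls at hq'
    simp only [List.mem_cons, List.not_mem_nil, or_false] at hq'
    rcases hq' with rfl | rfl | rfl | rfl | rfl <;> norm_num
  exact hs q'.1 this

end

end Cfsg.Agent.Lib.Helper4.McL
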